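import Cfsg.Agent.H477.HC.Cus
import Mathlib.FieldTheory.Perfect

/-!
# Galois conjugates of the cuspidal characters of `GL_k(K)` (S4913, helper328)

* `psi_map` : `τ ∘ ψ_θ = ψ_{τ ∘ θ}`;
* `psi_sigma` : `ψ_θ (σ A) = ψ_{θ ∘ τ} A` for a field automorphism `σ` with an extension `τ` to `L`;
* `exists_one`, `exists_two` : the characters of `GL_1(K)`, `GL_2(K)` attached to a character of order three;
* `exists_five` : the character of `GL_2(K)`, `|K| = q²`, attached to a character of order five.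
-/

set_option autoImplicit false

open scoped ComplexConjugate
open Cfsg

namespace Cfsg.Agent.H328.Gow

open Cfsg.Agent.OddOrderCharacters.Clifford Cfsg.Agent.Characters MulAction Module Cfsg.Agent.H53.HC
open Cfsg.Agent.H139.Cusp Cfsg.Agent.H477.HC

universe u v w

section Map

variable {F : Type u} [Field F] [Finite F] (L : Type w) [Field L] [Algebra F L] (θ : L →*₀ ℂ)
variable {V : Type v} [AddCommGroup V] [Module F V] [Finite V]

/-- the Galois conjugate of a multiplicative map -/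
noncomputable def mapTheta (τ : ℂ ≃+* ℂ) {L : Type w} [Field L] (θ : L →*₀ ℂ) : L →*₀ ℂ where
  toFun x := τ (θ x)
  map_zero' := by rw [map_zero, map_zero]
  map_one' := by rw [map_one, map_one]
  map_mul' x y := by rw [map_mul, map_mul]

omit [Finite F] in
theorem cusp_map (τ : ℂ ≃+* ℂ) (g : V →ₗ[F] V) : τ (cusp L θ g) = cusp L (mapTheta τ θ) g := by
  classical
  rw [cusp, cusp, map_mul, map_pow, map_neg, map_one]
  congr 1
  refine kap_unique _ (k := fun W => τ (kap (lb L θ) g W)) ?_ ?_ ⊤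
  · intro W hW
    rw [kap_of_not _ hW, map_zero]
  · intro W hW
    rw [← map_sum, kap_sum _ hW, lb, map_multiset_sum, Multiset.map_map, lb]
    rfl

omit [Finite F] in
theorem psi_map (τ : ℂ ≃+* ℂ) {n : ℕ} [Finite F] (A : GL (Fin n) F) :
    τ (psi L θ A) = psi L (mapTheta τ θ) A := cusp_map L θ τ _

end Map

section Sigma

variable {F : Type u} [Field F] [Finite F] {L : Type w} [Field L] [Finite L] [Algebra F L]

theorem psi_sigma (σ : F ≃+* F) (τ : L ≃+* L) (hτ : ∀ c : F, τ (algebraMap F L c) = algebraMap F L (σ c))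
    {θ θ' : L →*₀ ℂ} (hθ : ∀ x, θ' (τ x) = θ x) {n : ℕ} (hn : Module.finrank F L = n) (A : GL (Fin n) F) :
    psi L θ' (Matrix.GeneralLinearGroup.map (σ : F →+* F) A) = psi L θ A := by
  let e : (Fin n → F) ≃+ (Fin n → F) :=
    { toFun := fun v i => σ (v i)
      invFun := fun v i => σ.symm (v i)
      left_inv := fun v => by ext i; simp
      right_inv := fun v => by ext i; simp
      map_add' := fun v w => by ext i; simp }
  refine cusp_semilinear (V := Fin n → F) (V' := Fin n → F) σ e (fun c v => by ext i; simp [e]) (fun v => ?_) τ hτ hθ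
    (by rw [Module.finrank_fin_fun, hn])
  ext i
  rw [Matrix.toLin'_apply, Matrix.toLin'_apply]
  simp [e, Matrix.mulVec, dotProduct, map_sum]

end Sigma

section Roots

variable {L : Type w} [Field L] [Finite L] {θ : L →*₀ ℂ} (hθ : Function.Injective θ)

include hθ in
/-- the Galois conjugates of `θ ^ a`, of order `r` -/
theorem exists_pow_map {a r : ℕ} (ha : a ≠ 0) (har : a * r = Nat.card Lˣ) (τ : ℂ ≃+* ℂ) :
    ∃ j < r, ∀ x : L, τ (powTheta θ a ha x) = powTheta θ a ha x ^ j ∨ x = 0 := by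
  obtain ⟨γ, hγ⟩ := IsCyclic.exists_ofOrder_eq_natCard (α := Lˣ)
  have hgen : ∀ x : Lˣ, ∃ i : ℕ, γ ^ i = x := by
    intro x
    have h1 : Subgroup.zpowers γ = ⊤ := Subgroup.eq_top_of_card_eq _ (by rw [Nat.card_zpowers, hγ])
    have h2 : x ∈ Subgroup.zpowers γ := by rw [h1]; trivial
    exact mem_powers_iff_mem_zpowers.2 h2
  have hr : 0 < r := by
    rcases Nat.eq_zero_or_pos r with rfl | h
    · rw [mul_zero] at har
      exact absurd har.symm Nat.card_pos.ne'
    · exact h
  have hz : IsPrimitiveRoot (θ (γ : L)) (Nat.card Lˣ) := by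
    refine ⟨?_, fun l hl => ?_⟩
    · rw [← map_pow, ← Units.val_pow_eq_pow_val, pow_card_eq_one', Units.val_one, map_one]
    · rw [← map_pow, ← Units.val_pow_eq_pow_val] at hl
      have h1 : ((γ ^ l : Lˣ) : L) = 1 := hθ (by rw [hl, map_one])
      have h2 : γ ^ l = 1 := Units.ext h1
      rw [← hγ]
      exact orderOf_dvd_of_pow_eq_one h2
  have hζ : IsPrimitiveRoot (θ (γ : L) ^ a) r := hz.pow Nat.card_pos (by rw [har])
  have hne : NeZero r := ⟨hr.ne'⟩
  obtain ⟨j, hj, hj'⟩ := hζ.eq_pow_of_pow_eq_one (ξ := τ (θ (γ : L) ^ a)) (by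
    rw [← map_pow, hζ.pow_eq_one, map_one])
  refine ⟨j, hj, fun x => ?_⟩
  by_cases hx : x = 0
  · exact Or.inr hx
  · left
    obtain ⟨i, hi⟩ := hgen (Units.mk0 x hx)
    have h1 : x = (γ : L) ^ i := by
      have := congrArg Units.val hi
      rw [Units.val_pow_eq_pow_val, Units.val_mk0] at this
      exact this.symm
    have h2 : powTheta θ a ha x = (θ (γ : L) ^ a) ^ i := by
      rw [powTheta_apply, h1, map_pow, ← pow_mul, ← pow_mul, mul_comm i a]
    rw [h2, map_pow, ← hj']
    exact pow_right_comm _ _ _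

omit [Finite L] in
include hθ in
/-- `θ ^ a` is not trivial on the elements of order dividing `s` if `r ∤ |L^*| / s` -/
theorem powTheta_ne_one {a m : ℕ} (ha : a ≠ 0) {γ : Lˣ} (hγ : orderOf γ = Nat.card Lˣ)
    (h : ¬ Nat.card Lˣ ∣ a * m) : powTheta θ a ha ((γ ^ m : Lˣ) : L) ≠ 1 := by
  intro h1
  rw [powTheta_apply, ← map_pow, ← Units.val_pow_eq_pow_val, ← pow_mul] at h1
  have h2 : ((γ ^ (m * a) : Lˣ) : L) = 1 := hθ (by rw [h1, map_one])
  apply h
  rw [← hγ, mul_comm a m]
  exact orderOf_dvd_of_pow_eq_one (Units.ext h2)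

end Roots

/-- a rational cuspidal datum -/
structure RCus (K : Type u) [Field K] (k : ℕ) (σ : K →+* K) (c : GL (Fin k) K → ℂ) : Prop where
  irr : IsIrrCharacter _ c
  cusp : IsCusp c
  gal : ∀ τ : ℂ ≃+* ℂ, (fun A => τ (c A)) = c ∨ (fun A => τ (c A)) = c ∘ ((Matrix.GeneralLinearGroup.map σ).comp (invT k))
  deg : ∃ d : ℕ, Odd d ∧ c 1 = d

variable {K : Type u} [Field K] [Finite K]

omit [Finite K] in
theorem map_id_comp (k : ℕ) : (Matrix.GeneralLinearGroup.map (RingHom.id K)).comp (invT k) = invT k := by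
  ext A i j
  rfl

theorem mapTheta_three {L : Type w} [Field L] [Finite L] {θ : L →*₀ ℂ} (hθ : Function.Injective θ) {a : ℕ}
    (ha : a ≠ 0) (har : a * 3 = Nat.card Lˣ) (τ : ℂ ≃+* ℂ) :
    mapTheta τ (powTheta θ a ha) = powTheta θ a ha ∨ mapTheta τ (powTheta θ a ha) = conjTheta (powTheta θ a ha) := by
  obtain ⟨j, hj, h⟩ := exists_pow_map hθ ha har τ
  have hcube : ∀ x : L, x ≠ 0 → powTheta θ a ha x ^ 3 = 1 := by
    intro x hx
    rw [powTheta_apply, ← pow_mul, har, ← map_pow]
    have h3 : (Units.mk0 x hx) ^ Nat.card Lˣ = 1 := pow_card_eq_one'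
    have h4 : x ^ Nat.card Lˣ = 1 := congrArg Units.val h3
    rw [h4, map_one]
  have hcard : (Nat.card Lˣ) ≠ 0 := Nat.card_pos.ne'
  rcases Nat.lt_or_ge j 2 with h2 | h2
  · left
    ext x
    change τ (powTheta θ a ha x) = _
    rcases h x with h1 | h1
    · have h01 : j = 0 ∨ j = 1 := by omega
      rcases h01 with rfl | rfl
      · rw [pow_zero] at h1
        have h5 : powTheta θ a ha x = 1 := τ.injective (by rw [h1, map_one])
        rw [h5, map_one]
      · rw [h1, pow_one]
    · rw [h1, map_zero, map_zero]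
  · right
    have hj2 : j = 2 := by omega
    subst hj2
    ext x
    rw [conjTheta_apply, conj_theta_eq, map_inv₀]
    change τ (powTheta θ a ha x) = _
    rcases h x with h1 | h1
    · by_cases hx : x = 0
      · rw [hx, map_zero, map_zero, inv_zero]
      · rw [h1]
        have h3 := hcube x hx
        exact eq_inv_of_mul_eq_one_left (by rw [← h3]; ring)
    · rw [h1, map_zero, map_zero, inv_zero]

/-- a character of order three of `L^*`, `[L : K] = k` -/
theorem exists_three {σ : K →+* K} (k : ℕ) (hk : 0 < k) (L : Type w) [Field L] [Finite L] [Algebra K L]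
    (hL : Module.finrank K L = k) {θ : L →*₀ ℂ} (hθ : Function.Injective θ) {a : ℕ} (ha : a ≠ 0)
    (har : a * 3 = Nat.card Lˣ) (hreg : ∀ i, 0 < i → i < k → ¬ 3 ∣ (Nat.card K ^ i - 1)) (h2 : Even (Nat.card K))
    (hσ : ∀ A : GL (Fin k) K, psi L (powTheta θ a ha) (Matrix.GeneralLinearGroup.map σ A) = psi L (powTheta θ a ha) A) :
    RCus K k σ (psi L (powTheta θ a ha)) := by
  have hcardL : Nat.card Lˣ = Nat.card K ^ k - 1 := by
    rw [Nat.card_units, Module.natCard_eq_pow_finrank (K := K), hL]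
  have hR : Regular K k (powTheta θ a ha) := (regular_powTheta_iff hθ ha hL).2 fun i hi hik h => by
    rw [← hcardL, ← har] at h
    exact hreg i hi hik (Nat.dvd_of_mul_dvd_mul_left (Nat.pos_of_ne_zero ha) h)
  have hdual : psi L (powTheta θ a ha) ∘ ((Matrix.GeneralLinearGroup.map σ).comp (invT k)) =
      psi (n := k) (F := K) L (conjTheta (powTheta θ a ha)) := by
    ext A
    rw [Function.comp_apply, MonoidHom.comp_apply, hσ, psi_invT _ hL]
    exact cusp_star L _ _
  refine ⟨psi_isIrr _ hL hR, psi_isCusp L _, fun τ => ?_, ⟨_, ?_, psi_one L _ hk⟩⟩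
  · rcases mapTheta_three hθ ha har τ with h | h
    · left
      ext A
      rw [psi_map, h]
    · right
      rw [hdual]
      ext A
      rw [psi_map, h]
  · rw [degP_eq_Ico]
    refine Finset.prod_induction _ Odd (fun _ _ h h' => h.mul h') odd_one fun i hi => ?_
    rw [Finset.mem_Ico] at hi
    have h3 : Even (Nat.card K ^ i) := h2.pow_of_ne_zero (by omega)
    have h4 : 0 < Nat.card K ^ i := pow_pos Nat.card_pos _
    obtain ⟨t, ht⟩ := h3
    exact ⟨t - 1, by omega⟩

/-- the dual of a character of order three -/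
theorem dual_ne_three {σ : K →+* K} (k : ℕ) (L : Type w) [Field L] [Finite L] [Algebra K L]
    (hL : Module.finrank K L = k) {θ : L →*₀ ℂ} (hθ : Function.Injective θ) {a : ℕ} (ha : a ≠ 0)
    (har : a * 3 = Nat.card Lˣ) (hreg : ∀ i, 0 < i → i < k → ¬ 3 ∣ (Nat.card K ^ i - 1))
    (hdual : ∀ i, i < k → ¬ 3 ∣ (Nat.card K ^ i + 1))
    (hσ : ∀ A : GL (Fin k) K, psi L (powTheta θ a ha) (Matrix.GeneralLinearGroup.map σ A) = psi L (powTheta θ a ha) A) :
    psi L (powTheta θ a ha) ∘ ((Matrix.GeneralLinearGroup.map σ).comp (invT k)) ≠ psi L (powTheta θ a ha) := by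
  have hcardL : Nat.card Lˣ = Nat.card K ^ k - 1 := by
    rw [Nat.card_units, Module.natCard_eq_pow_finrank (K := K), hL]
  have hR : Regular K k (powTheta θ a ha) := (regular_powTheta_iff hθ ha hL).2 fun i hi hik h => by
    rw [← hcardL, ← har] at h
    exact hreg i hi hik (Nat.dvd_of_mul_dvd_mul_left (Nat.pos_of_ne_zero ha) h)
  intro h
  have h1 : ∀ g : ((Fin k → K) →ₗ[K] (Fin k → K))ˣ, cusp L (powTheta θ a ha) (g : (Fin k → K) →ₗ[K] (Fin k → K)) =
      cusp L (conjTheta (powTheta θ a ha)) (g : (Fin k → K) →ₗ[K] (Fin k → K)) := by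
    intro g
    let A : GL (Fin k) K := Matrix.GeneralLinearGroup.toLin.symm g
    have h2 := congrFun h A
    rw [Function.comp_apply, MonoidHom.comp_apply, hσ, psi_invT _ hL] at h2
    have h4 : psi L (powTheta θ a ha) A = cusp L (powTheta θ a ha) (g : (Fin k → K) →ₗ[K] (Fin k → K)) := by
      have h5 : Matrix.GeneralLinearGroup.toLin A = g := MulEquiv.apply_symm_apply _ g
      rw [← h5]
      rfl
    rw [h4, cusp_star] at h2
    exact h2.symm
  obtain ⟨i, hi, h2⟩ := (cusp_eq_iff (V := Fin k → K) (powTheta θ a ha) (conjTheta (powTheta θ a ha))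
    (by rw [Module.finrank_fin_fun, hL]) (by rw [hL]; exact hR)).1 h1
  rw [hL] at hi
  have h3 := (conj_powTheta_eq_iff hθ ha ha (pow_ne_zero i (Nat.card_pos (α := K)).ne')).1 h2
  rw [← har] at h3
  refine hdual i hi (Nat.dvd_of_mul_dvd_mul_left (Nat.pos_of_ne_zero ha) (h3.trans (dvd_of_eq ?_)))
  ring

theorem psi_id (k : ℕ) (L : Type w) [Field L] [Finite L] [Algebra K L] (θ : L →*₀ ℂ) (A : GL (Fin k) K) :
    psi L θ (Matrix.GeneralLinearGroup.map (RingHom.id K) A) = psi L θ A := by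
  congr 1

/-- **`σ = id`, `3 ∣ q - 1`** -/
theorem exists_one_id (h2 : Even (Nat.card K)) (h3 : 3 ∣ Nat.card K - 1) :
    ∃ c : GL (Fin 1) K → ℂ, RCus K 1 (RingHom.id K) c ∧
      c ∘ ((Matrix.GeneralLinearGroup.map (RingHom.id K)).comp (invT 1)) ≠ c := by
  obtain ⟨L, _, _, _, hL⟩ := exists_L K 1 one_pos
  obtain ⟨θ, hθ⟩ := exists_theta L
  have hcardL : Nat.card Lˣ = Nat.card K ^ 1 - 1 := by
    rw [Nat.card_units, Module.natCard_eq_pow_finrank (K := K), hL]
  obtain ⟨a, ha⟩ := h3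
  have har : a * 3 = Nat.card Lˣ := by rw [hcardL, pow_one, ha, mul_comm]
  have ha0 : a ≠ 0 := by
    rintro rfl
    rw [zero_mul] at har
    exact Nat.card_pos.ne har
  exact ⟨_, exists_three 1 one_pos L hL hθ ha0 har (fun i hi hik => by omega) h2 (psi_id 1 L _),
    dual_ne_three 1 L hL hθ ha0 har (fun i hi hik => by omega) (fun i hi => by
      have : i = 0 := by omega
      rw [this, pow_zero]
      decide) (psi_id 1 L _)⟩

/-- **`σ = id`, `3 ∤ q - 1`** -/
theorem exists_two_id (h2 : Even (Nat.card K)) (hd : (Nat.card K) % 3 = 2) :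
    ∃ c : GL (Fin 2) K → ℂ, RCus K 2 (RingHom.id K) c := by
  obtain ⟨L, _, _, _, hL⟩ := exists_L K 2 two_pos
  obtain ⟨θ, hθ⟩ := exists_theta L
  have hcardL : Nat.card Lˣ = Nat.card K ^ 2 - 1 := by
    rw [Nat.card_units, Module.natCard_eq_pow_finrank (K := K), hL]
  have h3 : 3 ∣ Nat.card K ^ 2 - 1 := by
    have h4 : Nat.card K ^ 2 - 1 = (Nat.card K + 1) * (Nat.card K - 1) := by
      rw [← Nat.sq_sub_sq, one_pow]
    rw [h4]
    exact Dvd.dvd.mul_right (by omega) _
  obtain ⟨a, ha⟩ := h3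
  have har : a * 3 = Nat.card Lˣ := by rw [hcardL, ha, mul_comm]
  have ha0 : a ≠ 0 := by
    rintro rfl
    rw [zero_mul] at har
    exact Nat.card_pos.ne har
  refine ⟨_, exists_three 2 two_pos L hL hθ ha0 har (fun i hi hik => ?_) h2 (psi_id 2 L _)⟩
  have : i = 1 := by omega
  rw [this, pow_one]
  omega

end Cfsg.Agent.H328.Gow
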