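import Cfsg.Agent.H328.Gow.Rat
import Cfsg.Agent.H328.Gow.CusRat
import Cfsg.Agent.H477.HC.Arith

/-!
# Rational-valued irreducible characters of odd degree of `Sp(V)`, `O(V)` in characteristic two (S4913, helper328)

`exists_iso` : the isometry group has one, and it is not trivial on any subgroup containing the root elements;
`root_mem_commutator` : root elements are commutators.
-/

set_option autoImplicit false
set_option linter.style.haveILetI false

open scoped ComplexConjugate
open Cfsg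

namespace Cfsg.Agent.H328.Gow

open Cfsg.Agent.OddOrderCharacters.Clifford Cfsg.Agent.Characters MulAction Module Cfsg.Agent.H53.HC
  Cfsg.Agent.H477.HC

universe u v w

variable {K : Type u} [Field K] {V : Type v} [AddCommGroup V] [Module K V] (F : CForm K V)

theorem Om_of_le {k l : ℕ} {W : Submodule K V} (hW : W ∈ F.Om l) (hkl : k ≤ l) [FiniteDimensional K V] :
    ∃ W' ≤ W, W' ∈ F.Om k := by
  obtain ⟨b⟩ : Nonempty (Basis (Fin l) K W) := ⟨finBasisOfFinrankEq K W hW.2⟩
  let W' : Submodule K V := Submodule.span K (Set.range fun i : Fin k => (b (Fin.castLE hkl i) : V))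
  have hle : W' ≤ W := by
    rw [Submodule.span_le]
    rintro _ ⟨i, rfl⟩
    exact (b _).2
  refine ⟨W', hle, hW.1.mono hle, ?_⟩
  have hli : LinearIndependent K (fun i : Fin k => (b (Fin.castLE hkl i) : V)) := by
    have h1 := b.linearIndependent.comp _ (Fin.castLE_injective hkl)
    exact h1.map' W.subtype (Submodule.ker_subtype W)
  have := finrank_span_eq_card hli
  rwa [Fintype.card_fin] at this

theorem card_Om_ne_one [FiniteDimensional K V] {k : ℕ} (hk : 0 < k) {W₀ : Submodule K V} (hW₀ : W₀ ∈ F.Om k) :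
    Nat.card (F.Om k) ≠ 1 := by
  intro h
  obtain ⟨h1, -⟩ := Nat.card_eq_one_iff_unique.1 h
  obtain ⟨W₁, hW₁, h0⟩ := F.exists_opp hW₀
  have h2 : (⟨W₁, hW₁⟩ : F.Om k) = ⟨W₀, hW₀⟩ := Subsingleton.elim _ _
  have h3 : W₁ = W₀ := congrArg Subtype.val h2
  rw [h3, inf_eq_left.2 hW₀.1.le_perp] at h0
  have h4 := hW₀.2
  rw [h0, finrank_bot] at h4
  omega

/-- **the isometry groups, `σ = id`** -/
theorem exists_iso_id [Finite K] [FiniteDimensional K V] [Finite V] [Fintype F.iso] [CharP K 2]
    (hσ : F.σ = RingHom.id K) {W : Submodule K V} (hW : W ∈ F.Om 2)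
    (hT : (∃ t ≠ 0, F.T t = 0) ∨ ((∀ t, F.T t = 0 → t = 0) ∧ 5 ≤ finrank K V)) :
    ∃ χ : F.iso → ℂ, IsIrrCharacter F.iso χ ∧ (∀ g, ∃ q : ℚ, χ g = q) ∧ (∃ e : ℕ, Odd e ∧ χ 1 = e) ∧
      ∀ G' : Subgroup F.iso, (∀ g, IsRoot F g → g ∈ G') → ¬ ∀ g ∈ G', χ g = 1 := by
  classical
  have hfO : ∀ k, Finite (F.Om k) := fun k => by
    have : Finite (Submodule K V) := Finite.of_injective (fun W : Submodule K V => (W : Set V)) SetLike.coe_injective
    infer_instance
  obtain ⟨s, hs⟩ := card_pow K 2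
  have hs0 : s ≠ 0 := by
    rintro rfl
    rw [pow_zero] at hs
    have : 1 < Nat.card K := Finite.one_lt_card
    omega
  have heven : Even (Nat.card K) := by rw [hs]; exact even_two.pow_of_ne_zero hs0
  have hiota : ∀ k, F.iota k = (Matrix.GeneralLinearGroup.map (RingHom.id K)).comp (invT k) := fun k => by
    unfold CForm.iota
    rw [hσ]
  by_cases h3 : 3 ∣ Nat.card K - 1
  · obtain ⟨W₁, -, hW₁⟩ := Om_of_le F hW (show 1 ≤ 2 by omega)
    let _ := Fintype.ofFinite (F.Om 1)
    obtain ⟨c, hc, hdual⟩ := exists_one_id (K := K) heven h3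
    obtain ⟨d, hd, hcd⟩ := hc.deg
    have hOm := odd_Om_one F hW₁ (by
      rcases hT with h | ⟨h, h'⟩
      · exact Or.inl h
      · exact Or.inr ⟨h, by omega⟩)
    have hdual' : c ∘ F.iota 1 ≠ c := by rw [hiota]; exact hdual
    obtain ⟨χ, hχ, hχr, hχd, -, hχc⟩ := exists_rat F one_pos hc.irr hc.cusp hW₁ (by rw [hiota]; exact hc.gal)
      (Or.inl hdual') hOm hd hcd
    refine ⟨χ, hχ, hχr, hχd, fun G' _ hG' => card_Om_ne_one F one_pos hW₁ ?_⟩
    have h1 := hG' 1 G'.one_mem
    rw [hχc hdual', hcf_one F (Core.isIrr_isClassFunction hc.irr), hcd] at h1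
    have h2 : Nat.card (F.Om 1) * d = 1 := by exact_mod_cast h1
    exact Nat.eq_one_of_mul_eq_one_right h2
  · let _ := Fintype.ofFinite (F.Om 2)
    have h4 : Nat.card K % 3 = 2 := by
      have h5 : ¬ 3 ∣ Nat.card K := by
        rw [hs]
        intro h
        have := (Nat.prime_dvd_prime_iff_eq Nat.prime_three Nat.prime_two).1 (Nat.prime_three.dvd_of_dvd_pow h)
        omega
      have h6 : 0 < Nat.card K := Nat.card_pos
      omega
    obtain ⟨c, hc⟩ := exists_two_id (K := K) heven h4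
    obtain ⟨d, hd, hcd⟩ := hc.deg
    obtain ⟨χ, hχ, hχr, hχd, hχ0, -⟩ := exists_rat F two_pos hc.irr hc.cusp hW (by rw [hiota]; exact hc.gal)
      (Or.inr le_rfl) (odd_Om_two F hW hT) hd hcd
    refine ⟨χ, hχ, hχr, hχd, fun G' hG hG' => hχ0 ?_⟩
    exact inner_eq_zero_of_root F le_rfl hc.irr hc.cusp hW hG (Core.isIrr_isCharacter hχ) (fun g hg => by
      rw [hG' g hg, hG' 1 G'.one_mem])

/-- **root elements are commutators**, `σ = id`, `ε = 1`, Witt index at least three -/
theorem root_mem_commutator [FiniteDimensional K V] (hσ : F.σ = RingHom.id K) (hε : F.ε = 1) {M₀ : Submodule K V}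
    (hM₀ : M₀ ∈ F.Om 3) {g : F.iso} (hg : IsRoot F g) : g ∈ commutator F.iso := by
  classical
  obtain ⟨c, b, hc, hb, hcb, hgv⟩ := hg
  rw [hε, inv_one] at hgv
  by_cases hli : LinearIndependent K ![c, b]
  · -- a totally singular space of dimension three
    have hfr : finrank K (Submodule.span K {c, b}) = 2 := by
      have := finrank_span_eq_card hli
      rw [Matrix.range_cons, Matrix.range_cons, Matrix.range_empty, Set.union_empty, Fintype.card_fin] at this
      exact this
    have hTS : F.TS (Submodule.span K {c, b}) := by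
      have hbc := F.B_eq_zero hcb
      refine ⟨fun x hx => ?_, fun x hx y hy => ?_⟩
      · obtain ⟨s, t, rfl⟩ := Submodule.mem_span_pair.1 hx
        rw [F.Q_add, F.Q_smul, F.Q_smul, hc.1, hb.1, F.B_smul_left, F.B_smul_right, hcb]
        simp
      · obtain ⟨s, t, rfl⟩ := Submodule.mem_span_pair.1 hx
        obtain ⟨s', t', rfl⟩ := Submodule.mem_span_pair.1 hy
        simp only [F.B_add_left, F.B_add_right, F.B_smul_left, F.B_smul_right, hcb, hbc, hc.2, hb.2]
        ring
    obtain ⟨W₂, hW₂, hW₂'⟩ := Om_of_le F hM₀ (show 2 ≤ 3 by omega)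
    obtain ⟨x, hx⟩ := F.trans_Om hW₂' (show Submodule.span K {c, b} ∈ F.Om 2 from ⟨hTS, hfr⟩)
    obtain ⟨M, hM⟩ : ∃ M, M = M₀.map (F.iso.subtype x : V →ₗ[K] V) := ⟨_, rfl⟩
    have hMO : M ∈ F.Om 3 := by rw [hM]; exact F.Om_map x M₀ hM₀
    have hle : Submodule.span K {c, b} ≤ M := by rw [hM, ← hx]; exact Submodule.map_mono hW₂
    have hcM : c ∈ M := hle (Submodule.subset_span (Set.mem_insert _ _))
    have hbM : b ∈ M := hle (Submodule.subset_span (Set.mem_insert_of_mem _ (Set.mem_singleton _)))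
    -- a third vector
    obtain ⟨d, hdM, hd⟩ : ∃ d ∈ M, d ∉ Submodule.span K {c, b} := by
      by_contra hcon
      push Not at hcon
      have h6 := Submodule.finrank_mono (fun x hx => hcon x hx : M ≤ Submodule.span K {c, b})
      rw [hMO.2, hfr] at h6
      omega
    have hli3 : LinearIndependent K ![(⟨d, hdM⟩ : M), ⟨c, hcM⟩, ⟨b, hbM⟩] := by
      have h1 : LinearIndependent K ![d, c, b] := by
        refine linearIndependent_finCons.2 ⟨hli, ?_⟩
        rw [Matrix.range_cons, Matrix.range_cons, Matrix.range_empty, Set.union_empty]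
        exact hd
      apply LinearIndependent.of_comp M.subtype
      convert h1
      ext i
      fin_cases i <;> rfl
    let e : Basis (Fin 3) K M := basisOfLinearIndependentOfCardEqFinrank hli3 (by rw [Fintype.card_fin, hMO.2])
    have he : ∀ i, e i = ![(⟨d, hdM⟩ : M), ⟨c, hcM⟩, ⟨b, hbM⟩] i := fun i => by
      rw [coe_basisOfLinearIndependentOfCardEqFinrank]
    -- the automorphism `d ↦ d + b`
    obtain ⟨a, ha0, ha1, ha2⟩ : ∃ a : M ≃ₗ[K] M, a (e 0) = e 0 + e 2 ∧ a (e 1) = e 1 ∧ a (e 2) = e 2 := by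
      have hf : (e.coord 0) (e 2) = 0 := by
        rw [Basis.coord_apply, Basis.repr_self, Finsupp.single_eq_of_ne (by decide)]
      refine ⟨LinearEquiv.transvection hf, ?_, ?_, ?_⟩
      · rw [LinearEquiv.transvection.apply, Basis.coord_apply, Basis.repr_self, Finsupp.single_eq_same, one_smul]
      · rw [LinearEquiv.transvection.apply, Basis.coord_apply, Basis.repr_self, Finsupp.single_eq_of_ne (by decide),
          zero_smul, add_zero]
      · rw [LinearEquiv.transvection.apply, hf, zero_smul, add_zero]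
    obtain ⟨h, hh⟩ := F.exists_levi' hMO.1 a
    have h0 : (h : V ≃ₗ[K] V) d = d + b := by
      have h1 := hh ⟨d, hdM⟩
      have h2 : e 0 = ⟨d, hdM⟩ := he 0
      have h3 : e 2 = ⟨b, hbM⟩ := he 2
      rw [h2, h3] at ha0
      rw [h1, ha0]
      rfl
    have h1 : (h : V ≃ₗ[K] V) c = c := by
      have h1 := hh ⟨c, hcM⟩
      have h2 : e 1 = ⟨c, hcM⟩ := he 1
      rw [h2] at ha1
      rw [h1, ha1]
    -- the root element `(c, d)`
    have hcd : F.B c d = 0 := hMO.1.2 c hcM d hdM
    have hdc := F.B_eq_zero hcd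
    obtain ⟨r, hr⟩ := F.exists_root hc (hMO.1.sing hdM) hcd
    rw [hε, inv_one] at hr
    have hrr : ∀ v, ((r⁻¹ : F.iso) : V ≃ₗ[K] V) v = v - (F.B v d • c - (1 * F.B v c) • d) := by
      intro v
      have h2 : (r : V ≃ₗ[K] V) (v - (F.B v d • c - (1 * F.B v c) • d)) = v := by
        rw [hr]
        simp only [F.B_sub_left, F.B_smul_left, hcd, hdc, hc.2, (hMO.1.sing hdM).2]
        module
      have h3 : ((r⁻¹ : F.iso) : V ≃ₗ[K] V) ((r : V ≃ₗ[K] V) (v - (F.B v d • c - (1 * F.B v c) • d))) =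
          v - (F.B v d • c - (1 * F.B v c) • d) := (r : V ≃ₗ[K] V).symm_apply_apply _
      rwa [h2] at h3
    have hfin : g = h * r * h⁻¹ * r⁻¹ := by
      apply Subtype.ext
      ext v
      rw [hgv]
      change _ = (h : V ≃ₗ[K] V) ((r : V ≃ₗ[K] V) (((h⁻¹ : F.iso) : V ≃ₗ[K] V) (((r⁻¹ : F.iso) : V ≃ₗ[K] V) v)))
      have h4 : ∀ y, (h : V ≃ₗ[K] V) ((r : V ≃ₗ[K] V) (((h⁻¹ : F.iso) : V ≃ₗ[K] V) y)) =
          y + F.B y (d + b) • c - (1 * F.B y c) • (d + b) := by
        intro y
        have e1 : (h : V ≃ₗ[K] V) (((h⁻¹ : F.iso) : V ≃ₗ[K] V) y) = y := (h : V ≃ₗ[K] V).apply_symm_apply y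
        have e2 : F.B (((h⁻¹ : F.iso) : V ≃ₗ[K] V) y) d = F.B y (d + b) := by
          rw [← F.iso_B h, e1, h0]
        have e3 : F.B (((h⁻¹ : F.iso) : V ≃ₗ[K] V) y) c = F.B y c := by
          rw [← F.iso_B h, e1, h1]
        rw [hr, map_sub, map_add, map_smul, map_smul, e1, e2, e3, h0, h1]
      rw [h4, hrr]
      have e5 : F.B d b = 0 := hMO.1.2 d hdM b hbM
      simp only [F.B_sub_left, F.B_smul_left, F.B_add_right, hcd, hdc, hc.2, (hMO.1.sing hdM).2, hcb, e5]
      module
    rw [hfin]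
    exact Subgroup.commutator_mem_commutator (Subgroup.mem_top h) (Subgroup.mem_top r)
  · -- dependent vectors
    have hg1 : g = 1 := by
      apply Subtype.ext
      ext v
      rw [hgv]
      change _ = v
      rw [LinearIndependent.pair_iff] at hli
      push Not at hli
      obtain ⟨s, t, hst, hne⟩ := hli
      by_cases hs : s = 0
      · have ht := hne hs
        rw [hs, zero_smul, zero_add] at hst
        have hb0 := (smul_eq_zero.1 hst).resolve_left ht
        rw [hb0, F.B_zero_right]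
        module
      · have hc' : c = (-(s⁻¹ * t)) • b := by
          have h2 : s • c = -(t • b) := eq_neg_of_add_eq_zero_left hst
          have h3 : c = s⁻¹ • (s • c) := by rw [smul_smul, inv_mul_cancel₀ hs, one_smul]
          rw [h3, h2]
          module
        rw [hc', F.B_smul_right, hσ, RingHom.id_apply]
        module
    rw [hg1]
    exact Subgroup.one_mem _

end Cfsg.Agent.H328.Gow
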