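import Cfsg.Agent.H328.Gow.CusRat
import Cfsg.Agent.H477.HC.ModelB

/-!
# Rational cuspidal data for the unitary groups, characteristic two (S4913, helper328)

`|K| = q²`, `σ x = x ^ q`.

* `exists_one_herm` : `q ≡ 1 (mod 3)`, a character of `GL_1(K)` of order three;
* `exists_two_herm` : `q ≡ 2 (mod 3)`, the cuspidal character of `GL_2(K)` of a character of order five.
-/

set_option autoImplicit false

open scoped ComplexConjugate
open Cfsg

namespace Cfsg.Agent.H328.Gow

open Cfsg.Agent.OddOrderCharacters.Clifford Cfsg.Agent.Characters MulAction Module Cfsg.Agent.H53.HC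
open Cfsg.Agent.H139.Cusp Cfsg.Agent.H477.HC Cfsg.Agent.H477.HC.CForm

universe u v w

variable {K : Type u} [Field K] [Finite K]

theorem q_pow_two [CharP K 2] {q : ℕ} (hq : Nat.card K = q ^ 2) : ∃ s, 0 < s ∧ q = 2 ^ s := by
  have hex : ∃ s, Nat.card K = 2 ^ s := by
    let _ := Fintype.ofFinite K
    obtain ⟨n, -, h⟩ := FiniteField.card K 2
    exact ⟨n, by rw [Nat.card_eq_fintype_card, h]⟩
  obtain ⟨t, ht⟩ := hex
  have h1 : q ∣ 2 ^ t := by rw [← ht, hq]; exact dvd_pow_self q two_ne_zero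
  obtain ⟨s, -, hs⟩ := (Nat.dvd_prime_pow Nat.prime_two).1 h1
  refine ⟨s, Nat.pos_of_ne_zero ?_, hs⟩
  rintro rfl
  have := two_le_of_card hq
  rw [pow_zero] at hs
  omega

theorem exists_frob_pair [CharP K 2] {q : ℕ} (hq : Nat.card K = q ^ 2) (L : Type w) [Field L] [Finite L]
    [Algebra K L] : ∃ (σ : K ≃+* K) (τ : L ≃+* L), (σ : K →+* K) = powHom hq ∧ (∀ x, τ x = x ^ q) ∧
      ∀ c, τ (algebraMap K L c) = algebraMap K L (σ c) := by
  obtain ⟨s, -, hs⟩ := q_pow_two hq
  have hL : CharP L 2 := charP_of_injective_algebraMap (algebraMap K L).injective 2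
  refine ⟨iterateFrobeniusEquiv K 2 s, iterateFrobeniusEquiv L 2 s, ?_, fun x => ?_, fun c => ?_⟩
  · ext x
    rw [powHom_apply, hs]
    exact iterateFrobeniusEquiv_def K 2 s x
  · rw [hs]
    exact iterateFrobeniusEquiv_def L 2 s x
  · rw [iterateFrobeniusEquiv_def, iterateFrobeniusEquiv_def, map_pow]

theorem psi_frob [CharP K 2] {q : ℕ} (hq : Nat.card K = q ^ 2) (L : Type w) [Field L] [Finite L] [Algebra K L]
    (θ : L →*₀ ℂ) {a : ℕ} (ha : a ≠ 0) (haq : a * q ≠ 0) {k : ℕ} (hL : Module.finrank K L = k) (A : GL (Fin k) K) :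
    psi L (powTheta θ a ha) (Matrix.GeneralLinearGroup.map (powHom hq) A) = psi L (powTheta θ (a * q) haq) A := by
  obtain ⟨σ, τ, h1, h2, h3⟩ := exists_frob_pair hq L
  rw [← h1]
  refine psi_sigma σ τ h3 (fun x => ?_) hL A
  rw [powTheta_apply, powTheta_apply, h2, map_pow, ← pow_mul, mul_comm q a]

omit [Finite K] in
theorem powTheta_ext {L : Type w} [Field L] [Finite L] {θ : L →*₀ ℂ} (hθ : Function.Injective θ) {a b : ℕ}
    (ha : a ≠ 0) (hb : b ≠ 0) (h : b ≡ a [MOD Nat.card Lˣ]) : powTheta θ b hb = powTheta θ a ha := by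
  ext x
  have h1 := (powTheta_eq_iff hθ ha hb one_ne_zero).2 (by rwa [mul_one]) x
  rwa [pow_one] at h1

/-- **`q ≡ 1 (mod 3)`** -/
theorem exists_one_herm [CharP K 2] {q : ℕ} (hq : Nat.card K = q ^ 2) (h3 : q % 3 = 1) :
    ∃ c : GL (Fin 1) K → ℂ, RCus K 1 (powHom hq) c ∧ c 1 = 1 ∧
      c ∘ ((Matrix.GeneralLinearGroup.map (powHom hq)).comp (invT 1)) ≠ c ∧
      (∀ z : Kˣ, z ^ (q + 1) = 1 → c (Matrix.GeneralLinearGroup.scalar (Fin 1) z) = c 1) ∧
      ∃ t : Kˣ, (t : K) ^ q = t ∧ c (Matrix.GeneralLinearGroup.scalar (Fin 1) t) ≠ c 1 ∧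
        c (Matrix.GeneralLinearGroup.scalar (Fin 1) t) ≠ c (Matrix.GeneralLinearGroup.scalar (Fin 1) t⁻¹) := by
  obtain ⟨L, _, _, _, hL⟩ := exists_L K 1 one_pos
  obtain ⟨θ, hθ⟩ := exists_theta L
  have hcardL : Nat.card Lˣ = q ^ 2 - 1 := by
    rw [Nat.card_units, Module.natCard_eq_pow_finrank (K := K), hL, hq, pow_one]
  have hq2 := two_le_of_card hq
  obtain ⟨s, hs0, hs⟩ := q_pow_two hq
  have hev : Even (Nat.card K) := by
    rw [hq, hs]
    exact (even_two.pow_of_ne_zero hs0.ne').pow_of_ne_zero two_ne_zero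
  have hfac : q ^ 2 - 1 = (q - 1) * (q + 1) := by
    have := Nat.sq_sub_sq q 1
    rw [one_pow] at this
    rw [this, mul_comm]
  obtain ⟨a, ha⟩ : 3 ∣ Nat.card Lˣ := by
    rw [hcardL, hfac]
    exact Dvd.dvd.mul_right (by omega) _
  have har : a * 3 = Nat.card Lˣ := by rw [ha, mul_comm]
  have ha0 : a ≠ 0 := by
    rintro rfl
    rw [zero_mul] at har
    exact Nat.card_pos.ne har
  have haq : a * q ≠ 0 := mul_ne_zero ha0 (by omega)
  have hσ : ∀ A : GL (Fin 1) K, psi L (powTheta θ a ha0) (Matrix.GeneralLinearGroup.map (powHom hq) A) =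
      psi L (powTheta θ a ha0) A := by
    intro A
    rw [psi_frob hq L θ ha0 haq hL, powTheta_ext hθ ha0 haq]
    rw [← har]
    have h4 : q ≡ 1 [MOD 3] := h3
    have := h4.mul_left' a
    rwa [mul_one] at this
  have hone : psi L (powTheta θ a ha0) (1 : GL (Fin 1) K) = 1 := by
    rw [psi_one L _ one_pos, degP_eq_Ico]
    simp
  have hscal : ∀ z : Kˣ, psi L (powTheta θ a ha0) (Matrix.GeneralLinearGroup.scalar (Fin 1) z) =
      powTheta θ a ha0 (algebraMap K L z) := by
    intro z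
    have := psi_scalar (powTheta θ a ha0) hL z 1
    rw [mul_one, hone, mul_one] at this
    exact this
  have hcube : ∀ x : L, x ≠ 0 → powTheta θ a ha0 x ^ 3 = 1 := by
    intro x hx
    rw [powTheta_apply, ← pow_mul, har, ← map_pow]
    have h3 : (Units.mk0 x hx) ^ Nat.card Lˣ = 1 := pow_card_eq_one'
    have h4 : x ^ Nat.card Lˣ = 1 := congrArg Units.val h3
    rw [h4, map_one]
  refine ⟨psi L (powTheta θ a ha0), exists_three 1 one_pos L hL hθ ha0 har (fun i hi hik => by omega) hev hσ, hone,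
    dual_ne_three 1 L hL hθ ha0 har (fun i hi hik => by omega) (fun i hi => by
      have : i = 0 := by omega
      rw [this, pow_zero]
      decide) hσ, fun z hz => ?_, ?_⟩
  · rw [hone, hscal]
    have h4 := hcube (algebraMap K L z) (by
      rw [Ne, map_eq_zero]
      exact z.ne_zero)
    have h5 : powTheta θ a ha0 (algebraMap K L z) ^ (q + 1) = 1 := by
      rw [← map_pow, ← map_pow, ← Units.val_pow_eq_pow_val, hz, Units.val_one, map_one, map_one]
    obtain ⟨j, hj⟩ : ∃ j, q + 1 = 3 * j + 2 := ⟨q / 3, by omega⟩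
    rw [hj, pow_add, pow_mul, h4, one_pow, one_mul] at h5
    rw [show (3 : ℕ) = 2 + 1 from rfl, pow_succ, h5, one_mul] at h4
    exact h4
  · obtain ⟨γ, hγ⟩ := IsCyclic.exists_ofOrder_eq_natCard (α := Lˣ)
    have hsurj : Function.Surjective (algebraMap K L) := by
      have h4 : (⊥ : Subalgebra K L) = ⊤ := Subalgebra.bot_eq_top_of_finrank_eq_one hL
      intro x
      have h5 : x ∈ (⊥ : Subalgebra K L) := by rw [h4]; trivial
      exact Algebra.mem_bot.1 h5
    obtain ⟨t, ht⟩ := hsurj ((γ ^ (q + 1) : Lˣ) : L)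
    have ht0 : t ≠ 0 := by
      rintro rfl
      rw [map_zero] at ht
      exact (γ ^ (q + 1)).ne_zero ht.symm
    have hu1 := powTheta_ne_one hθ (m := q + 1) ha0 hγ (by
      rw [← har]
      intro h
      have := Nat.dvd_of_mul_dvd_mul_left (Nat.pos_of_ne_zero ha0) h
      omega)
    refine ⟨Units.mk0 t ht0, ?_, ?_, ?_⟩
    · rw [Units.val_mk0]
      apply (algebraMap K L).injective
      rw [map_pow, ht, ← Units.val_pow_eq_pow_val, ← pow_mul]
      congr 1
      have h4 : (q + 1) * q = (q ^ 2 - 1) + (q + 1) := by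
        rw [hfac]
        obtain ⟨r, rfl⟩ : ∃ r, q = r + 1 := ⟨q - 1, by omega⟩
        rw [Nat.add_sub_cancel]
        ring
      rw [h4, pow_add, ← hcardL, pow_card_eq_one', one_mul]
    · rw [hone, hscal, Units.val_mk0, ht]
      exact hu1
    · rw [hscal, hscal, Units.val_mk0, ht, Units.val_inv_eq_inv_val, Units.val_mk0, map_inv₀, map_inv₀, ht]
      intro h4
      have h5 := hcube ((γ ^ (q + 1) : Lˣ) : L) (Units.ne_zero _)
      have h6 : powTheta θ a ha0 ((γ ^ (q + 1) : Lˣ) : L) ≠ 0 := (map_ne_zero _).2 (Units.ne_zero _)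
      have h7 : powTheta θ a ha0 ((γ ^ (q + 1) : Lˣ) : L) ^ 2 = 1 := by
        rw [sq]
        nth_rewrite 2 [h4]
        exact mul_inv_cancel₀ h6
      rw [show (3 : ℕ) = 2 + 1 from rfl, pow_succ, h7, one_mul] at h5
      exact hu1 h5

/-- equality of cuspidal characters -/
theorem psi_congr {L : Type w} [Field L] [Finite L] [Algebra K L] {k : ℕ} (hL : Module.finrank K L = k)
    {θ : L →*₀ ℂ} (hθ : Function.Injective θ) {a b : ℕ} (ha : a ≠ 0) (hb : b ≠ 0)
    (hreg : Regular K k (powTheta θ a ha)) :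
    psi (n := k) (F := K) L (powTheta θ a ha) = psi L (powTheta θ b hb) ↔
      ∃ i < k, b ≡ a * Nat.card K ^ i [MOD Nat.card Lˣ] := by
  have h1 := cusp_eq_iff (V := Fin k → K) (powTheta θ a ha) (powTheta θ b hb)
      (by rw [Module.finrank_fin_fun, hL]) (by rw [hL]; exact hreg)
  rw [hL] at h1
  constructor
  · intro h
    obtain ⟨i, hi, h2⟩ := h1.1 fun g => by
      let A : GL (Fin k) K := Matrix.GeneralLinearGroup.toLin.symm g
      have h5 : Matrix.GeneralLinearGroup.toLin A = g := MulEquiv.apply_symm_apply _ g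
      have h2 := congrFun h A
      rw [← h5]
      exact h2
    exact ⟨i, hi, (powTheta_eq_iff hθ ha hb (pow_ne_zero i (Nat.card_pos (α := K)).ne')).1 h2⟩
  · rintro ⟨i, hi, h2⟩
    ext A
    exact h1.2 ⟨i, hi, (powTheta_eq_iff hθ ha hb (pow_ne_zero i (Nat.card_pos (α := K)).ne')).2 h2⟩
      (Matrix.GeneralLinearGroup.toLin A)

theorem mod_five {q s : ℕ} (hs : q = 2 ^ s) (h3 : q % 3 = 2) : q % 5 = 2 ∨ q % 5 = 3 := by
  rcases Nat.even_or_odd' s with ⟨t, ht | ht⟩
  · exfalso
    rw [hs, ht, pow_mul] at h3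
    have h4 : (2 ^ 2) ^ t % 3 = 1 := by
      rw [Nat.pow_mod]
      norm_num
    omega
  · have h4 : ∀ t : ℕ, (4 ^ t) % 5 = 1 ∨ (4 ^ t) % 5 = 4 := by
      intro t
      induction t with
      | zero => left; rfl
      | succ t ih => rw [pow_succ]; omega
    have h5 : q = 4 ^ t * 2 := by rw [hs, ht, pow_add, pow_mul, pow_one]; norm_num
    have := h4 t
    omega

/-- **`q ≡ 2 (mod 3)`** -/
theorem exists_two_herm [CharP K 2] {q : ℕ} (hq : Nat.card K = q ^ 2) (h3 : q % 3 = 2) :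
    ∃ c : GL (Fin 2) K → ℂ, RCus K 2 (powHom hq) c ∧
      c ∘ ((Matrix.GeneralLinearGroup.map (powHom hq)).comp (invT 2)) ≠ c ∧
      ∀ z : Kˣ, c (Matrix.GeneralLinearGroup.scalar (Fin 2) z) = c 1 := by
  obtain ⟨L, _, _, _, hL⟩ := exists_L K 2 two_pos
  obtain ⟨θ, hθ⟩ := exists_theta L
  have hcardL : Nat.card Lˣ = Nat.card K ^ 2 - 1 := by
    rw [Nat.card_units, Module.natCard_eq_pow_finrank (K := K), hL]
  have hq2 := two_le_of_card hq
  obtain ⟨s, hs0, hs⟩ := q_pow_two hq
  have h5 := mod_five hs h3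
  have hQ5 : Nat.card K % 5 = 4 := by
    rw [hq, Nat.pow_mod]
    rcases h5 with h | h <;> rw [h]
  have hev : Even (Nat.card K) := by
    rw [hq, hs]
    exact (even_two.pow_of_ne_zero hs0.ne').pow_of_ne_zero two_ne_zero
  have hK2 : 2 ≤ Nat.card K := Finite.one_lt_card
  have hfac : Nat.card K ^ 2 - 1 = (Nat.card K - 1) * (Nat.card K + 1) := by
    have := Nat.sq_sub_sq (Nat.card K) 1
    rw [one_pow] at this
    rw [this, mul_comm]
  obtain ⟨b, hb⟩ : 5 ∣ Nat.card K + 1 := by omega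
  obtain ⟨a, ha⟩ : ∃ a, a = (Nat.card K - 1) * b := ⟨_, rfl⟩
  have har : a * 5 = Nat.card Lˣ := by rw [hcardL, hfac, hb, ha]; ring
  have ha0 : a ≠ 0 := by
    rintro h
    rw [h, zero_mul] at har
    exact Nat.card_pos.ne har
  have hdvd : ∀ x y : ℕ, a * 5 ∣ a * x → 5 ∣ x := fun x _ h => Nat.dvd_of_mul_dvd_mul_left (Nat.pos_of_ne_zero ha0) h
  have hR1 : Regular K 2 (powTheta θ a ha0) := (regular_powTheta_iff hθ ha0 hL).2 fun i hi hik h => by
    rw [← hcardL, ← har] at h
    have h1 := hdvd _ 0 h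
    have : i = 1 := by omega
    rw [this, pow_one] at h1
    omega
  have ha2 : a * 2 ≠ 0 := mul_ne_zero ha0 two_ne_zero
  have ha3 : a * 3 ≠ 0 := mul_ne_zero ha0 three_ne_zero
  have ha4 : a * 4 ≠ 0 := mul_ne_zero ha0 four_ne_zero
  have haq : a * q ≠ 0 := mul_ne_zero ha0 (by omega)
  have hR2 : Regular K 2 (powTheta θ (a * 2) ha2) := (regular_powTheta_iff hθ ha2 hL).2 fun i hi hik h => by
    rw [← hcardL, ← har, mul_assoc] at h
    have h1 := hdvd _ 0 h
    have : i = 1 := by omega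
    rw [this, pow_one] at h1
    omega
  have e41 : psi (n := 2) (F := K) L (powTheta θ a ha0) = psi L (powTheta θ (a * 4) ha4) := by
    refine (psi_congr hL hθ ha0 ha4 hR1).2 ⟨1, by norm_num, ?_⟩
    rw [pow_one, ← har]
    exact Nat.ModEq.mul_left' a (show 4 % 5 = Nat.card K % 5 by rw [hQ5])
  have e23 : psi (n := 2) (F := K) L (powTheta θ (a * 2) ha2) = psi L (powTheta θ (a * 3) ha3) := by
    refine (psi_congr hL hθ ha2 ha3 hR2).2 ⟨1, by norm_num, ?_⟩
    rw [pow_one, ← har, mul_assoc]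
    exact Nat.ModEq.mul_left' a (show 3 % 5 = (2 * Nat.card K) % 5 by omega)
  have hne : psi (n := 2) (F := K) L (powTheta θ a ha0) ≠ psi L (powTheta θ (a * 2) ha2) := by
    intro h
    obtain ⟨i, hi, h1⟩ := (psi_congr hL hθ ha0 ha2 hR1).1 h
    rw [← har] at h1
    have h2 : 2 ≡ Nat.card K ^ i [MOD 5] := Nat.ModEq.mul_left_cancel' ha0 h1
    have h01 : i = 0 ∨ i = 1 := by omega
    rcases h01 with rfl | rfl
    · rw [pow_zero] at h2
      exact absurd h2 (by decide)
    · rw [pow_one] at h2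
      have h3 : 2 % 5 = Nat.card K % 5 := h2
      omega
  -- the dual
  have hdual : psi (n := 2) (F := K) L (powTheta θ a ha0) ∘
      ((Matrix.GeneralLinearGroup.map (powHom hq)).comp (invT 2)) = psi L (powTheta θ (a * 2) ha2) := by
    have h6 : psi (n := 2) (F := K) L (powTheta θ a ha0) ∘
      ((Matrix.GeneralLinearGroup.map (powHom hq)).comp (invT 2)) = psi L (conjTheta (powTheta θ (a * q) haq)) := by
      ext A
      rw [Function.comp_apply, MonoidHom.comp_apply, psi_frob hq L θ ha0 haq hL, psi_invT _ hL]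
      exact cusp_star L _ _
    rw [h6]
    rcases h5 with h5 | h5
    · have h7 : conjTheta (powTheta θ (a * q) haq) = powTheta θ (a * 3) ha3 := by
        ext x
        have := (conj_powTheta_eq_iff hθ ha3 haq one_ne_zero).2 (by
          rw [mul_one, ← mul_add, ← har]
          exact Nat.mul_dvd_mul_left a (by omega)) x
        rwa [pow_one] at this
      rw [h7, e23]
    · have h7 : conjTheta (powTheta θ (a * q) haq) = powTheta θ (a * 2) ha2 := by
        ext x
        have := (conj_powTheta_eq_iff hθ ha2 haq one_ne_zero).2 (by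
          rw [mul_one, ← mul_add, ← har]
          exact Nat.mul_dvd_mul_left a (by omega)) x
        rwa [pow_one] at this
      rw [h7]
  obtain ⟨γ, hγ⟩ := IsCyclic.exists_ofOrder_eq_natCard (α := Lˣ)
  refine ⟨psi L (powTheta θ a ha0), ⟨psi_isIrr _ hL hR1, psi_isCusp L _, fun τ => ?_, ⟨_, ?_, psi_one L _ two_pos⟩⟩,
    ?_, fun z => ?_⟩
  · obtain ⟨j, hj, h⟩ := exists_pow_map hθ ha0 har τ
    have hj0 : j ≠ 0 := by
      rintro rfl
      rcases h ((γ ^ 1 : Lˣ) : L) with h1 | h1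
      · rw [pow_zero] at h1
        refine powTheta_ne_one hθ (m := 1) ha0 hγ (fun h2 => ?_) (τ.injective (by rw [h1, map_one]))
        rw [← har] at h2
        have := hdvd _ 0 h2
        omega
      · exact (γ ^ 1).ne_zero h1
    have hmap : ∀ (haj : a * j ≠ 0), mapTheta τ (powTheta θ a ha0) = powTheta θ (a * j) haj := by
      intro haj
      ext x
      change τ (powTheta θ a ha0 x) = _
      rcases h x with h1 | h1
      · rw [h1, powTheta_apply, powTheta_apply, ← pow_mul]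
      · rw [h1, map_zero, map_zero, map_zero]
    have key : (fun A : GL (Fin 2) K => τ (psi L (powTheta θ a ha0) A)) =
        psi L (powTheta θ (a * j) (mul_ne_zero ha0 hj0)) := by
      ext A
      rw [psi_map, hmap]
    rw [key, hdual]
    have hj' : j = 1 ∨ j = 2 ∨ j = 3 ∨ j = 4 := by omega
    rcases hj' with rfl | rfl | rfl | rfl
    · left
      congr 1
      ext x
      rw [powTheta_apply, powTheta_apply, mul_one]
    · right; rfl
    · right; exact e23.symm
    · left; exact e41.symm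
  · rw [degP_eq_Ico]
    simp only [Nat.reduceAdd, Finset.prod_Ico_succ_top (show 1 ≤ 1 by norm_num), Finset.Ico_self, Finset.prod_empty,
      one_mul, pow_one]
    obtain ⟨t, ht⟩ := hev
    exact ⟨t - 1, by omega⟩
  · rw [hdual]
    exact hne.symm
  · have h6 := psi_scalar (powTheta θ a ha0) hL z 1
    rw [mul_one] at h6
    rw [h6, powTheta_algebraMap ha0 (by rw [ha]; exact Dvd.intro _ rfl) z.ne_zero, one_mul]

end Cfsg.Agent.H328.Gow
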