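import Cfsg.Agent.H328.Gow.NirrC
import Cfsg.Agent.H328.Gow.CusHerm
import Cfsg.Agent.H328.Gow.IsoRes
import Cfsg.Agent.H477.HC.RowSp
import Cfsg.Agent.H636.Gow.Par
import Cfsg.Agent.ClassicalGeometry.GUBasic
import Cfsg.Agent.ClassicalGeometry.HermParabolic
import Cfsg.Agent.LieClassical.SUBasic

/-!
# S4913: `PSU_n(q)`, `q` even (helper328)
-/

set_option autoImplicit false
set_option linter.style.haveILetI false

open scoped ComplexConjugate
open Cfsg

namespace Cfsg.Agent.H328.Gow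

open Cfsg.Agent.OddOrderCharacters.Clifford Cfsg.Agent.Characters MulAction Module Cfsg.Agent.H53.HC
  Cfsg.Agent.H477.HC Cfsg.Agent.H636.Gow Cfsg.Agent.H477.HC.CForm

universe u v w

variable {K : Type u} [Field K] [Fintype K]

theorem det_isoGU {q : ℕ} (hq : Nat.card K = q ^ 2) (n : ℕ) (A : GU n K q) :
    LinearMap.det (((isoGU hq n A : (CForm.hermF K hq n).iso) : (Fin n → K) ≃ₗ[K] (Fin n → K)) :
      (Fin n → K) →ₗ[K] (Fin n → K)) = ((A : GL (Fin n) K) : Matrix (Fin n) (Fin n) K).det := by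
  rw [← LinearMap.det_toLin']
  congr 1

/-- Hilbert 90 -/
theorem hdet_herm {q : ℕ} (hF : Fintype.card K = q ^ 2) (hq : Nat.card K = q ^ 2) (n : ℕ)
    (g : (CForm.hermF K hq n).iso) : ∃ a : Kˣ,
      LinearMap.det ((g : (Fin n → K) ≃ₗ[K] (Fin n → K)) : (Fin n → K) →ₗ[K] (Fin n → K)) =
        a * ((CForm.hermF K hq n).σ a)⁻¹ := by
  obtain ⟨A, rfl⟩ := (isoGU hq n).surjective g
  rw [det_isoGU]
  have h2 : (((A : GL (Fin n) K) : Matrix (Fin n) (Fin n) K).det) ^ (q + 1) = 1 :=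
    Cfsg.Agent.ClassicalGeometry.GUBasic.det_pow hF fun u v => A.2 u v
  obtain ⟨b, hb⟩ := Cfsg.Agent.ClassicalGeometry.HermParabolic.hilbert90 hF
    (u := Matrix.GeneralLinearGroup.det (A : GL (Fin n) K)) (Units.ext h2)
  have hq2 := two_le_of_card hq
  refine ⟨b⁻¹, ?_⟩
  have h3 : ((A : GL (Fin n) K) : Matrix (Fin n) (Fin n) K).det = (b : K) ^ (q - 1) :=
    (congrArg Units.val hb).symm
  rw [h3]
  change _ = ((b⁻¹ : Kˣ) : K) * (powHom hq ((b⁻¹ : Kˣ) : K))⁻¹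
  rw [powHom_apply, Units.val_inv_eq_inv_val, inv_pow, inv_inv]
  obtain ⟨m, rfl⟩ : ∃ m, q = m + 1 := ⟨q - 1, by omega⟩
  rw [Nat.add_sub_cancel, pow_succ']
  rw [← mul_assoc, inv_mul_cancel₀ b.ne_zero, one_mul]

/-- `SU` as the special isometry group -/
noncomputable def suHom {q : ℕ} (hq : Nat.card K = q ^ 2) (n : ℕ) : SU n K q →* sg (CForm.hermF K hq n) :=
  ((isoGU hq n).toMonoidHom.comp ((Matrix.SpecialLinearGroup.toGL.comp (SU n K q).subtype).codRestrict (GU n K q)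
    (fun A => A.2))).codRestrict (sg (CForm.hermF K hq n)) (fun A => by
    rw [mem_sg]
    exact (det_isoGU hq n _).trans A.1.2)

theorem suHom_surjective {q : ℕ} (hq : Nat.card K = q ^ 2) (n : ℕ) : Function.Surjective (suHom (K := K) hq n) := by
  rintro ⟨g, hg⟩
  obtain ⟨A, rfl⟩ := (isoGU hq n).surjective g
  rw [mem_sg, det_isoGU] at hg
  exact ⟨⟨⟨((A : GL (Fin n) K) : Matrix (Fin n) (Fin n) K), hg⟩, A.2⟩, Subtype.ext (congrArg (isoGU hq n)
    (Subtype.ext (Units.ext rfl)))⟩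

theorem psu_row {n q : ℕ} (hF : Fintype.card K = q ^ 2) (hq : Nat.card K = q ^ 2) (hn : 3 ≤ n)
    {k : ℕ} (hk : 0 < k) [Fintype (CForm.hermF K hq n).iso] [Fintype ((CForm.hermF K hq n).Om k)]
    {W₀ : Submodule K (Fin n → K)} (hW₀ : W₀ ∈ (CForm.hermF K hq n).Om k) {c : GL (Fin k) K → ℂ}
    (hc : RCus K k (powHom hq) c)
    (hz : ∀ z : Kˣ, z ^ (q + 1) = 1 → c (Matrix.GeneralLinearGroup.scalar (Fin k) z) = c 1)
    (hOm : Odd (Nat.card ((CForm.hermF K hq n).Om k)))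
    (hirr : IsIrrCharacter (sg (CForm.hermF K hq n))
      (fun g : sg (CForm.hermF K hq n) => hcf (CForm.hermF K hq n) c g)) : RatOdd (PSU n K q) := by
  classical
  have hcl := Core.isIrr_isClassFunction hc.irr
  have h1 := Core.isIrr_comp (suHom hq n) (suHom_surjective hq n) hirr
  have hfin : Finite (SU n K q) := inferInstance
  obtain ⟨η, hη, hη'⟩ := exists_quot (Subgroup.center (SU n K q)) h1 (fun z hz' => by
    obtain ⟨a, han, haq, rfl⟩ := (Cfsg.Agent.LieClassical.SUBasic.mem_center_SU_iff hF hn z).1 hz'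
    have ha0 : a ≠ 0 := by
      rintro rfl
      rw [zero_pow (Nat.succ_ne_zero q)] at haq
      exact zero_ne_one haq
    refine (CForm.hc_scalar (CForm.hermF K hq n) hcl (fun _ _ => 1) (a := Units.mk0 a ha0) (fun v => ?_)
      (hz _ (Units.ext haq)) (fun _ _ => rfl)).trans ?_
    · change (Matrix.diagonal (fun _ => a)).mulVec v = a • v
      ext i
      rw [Matrix.mulVec_diagonal, Pi.smul_apply, smul_eq_mul]
    · rw [Function.comp_apply, map_one]
      rfl)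
  obtain ⟨d, hd, hcd⟩ := hc.deg
  have hdeg : η 1 = ((Nat.card ((CForm.hermF K hq n).Om k) * d : ℕ) : ℂ) := by
    have := hη' 1
    rw [QuotientGroup.mk_one] at this
    rw [this, Function.comp_apply, map_one]
    change hcf (CForm.hermF K hq n) c 1 = _
    rw [hcf_one _ hcl, hcd, Nat.cast_mul]
  refine ⟨η, hη, ?_, ⟨_, hOm.mul hd, hdeg⟩, ?_⟩
  · rintro rfl
    rw [Pi.one_apply] at hdeg
    have h2 : Nat.card ((CForm.hermF K hq n).Om k) * d = 1 := by exact_mod_cast hdeg.symm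
    exact card_Om_ne_one _ hk hW₀ (Nat.eq_one_of_mul_eq_one_right h2)
  · intro g
    obtain ⟨x, rfl⟩ := QuotientGroup.mk_surjective g
    rw [hη']
    exact hcf_rat _ hk hc.irr hc.cusp hW₀ hc.gal _

/-- `PSU_n(q)` -/
theorem psu (F : Type*) [Field F] [Fintype F] [CharP F 2] (n q : ℕ) (hF : Fintype.card F = q ^ 2)
    (hn : 4 ≤ n) : RatOdd (PSU n F q) := by
  classical
  have hq : Nat.card F = q ^ 2 := by rw [Nat.card_eq_fintype_card, hF]
  obtain ⟨s, hs0, hs⟩ := q_pow_two hq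
  obtain ⟨m, rfl⟩ : ∃ m, n = 2 + (2 + m) := ⟨n - 4, by omega⟩
  obtain ⟨⟨W, hW⟩, -⟩ := CForm.hermF_frame (K := F) (p := 2) hq 2 m
  have hfi := finite_iso (CForm.hermF F hq (2 + (2 + m)))
  let _ := Fintype.ofFinite (CForm.hermF F hq (2 + (2 + m))).iso
  have hfO : ∀ k, Finite ((CForm.hermF F hq (2 + (2 + m))).Om k) := fun k => by
    have : Finite (Submodule F (Fin (2 + (2 + m)) → F)) :=
      Finite.of_injective (fun W : Submodule F (Fin (2 + (2 + m)) → F) => (W : Set (Fin (2 + (2 + m)) → F)))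
        SetLike.coe_injective
    infer_instance
  have hT : (CForm.hermF F hq (2 + (2 + m))).T 1 = 0 := by
    change (1 : F) + 1 ^ q = 0
    rw [one_pow, one_add_one_eq_two]
    exact_mod_cast CharP.cast_eq_zero F 2
  have h3 : q % 3 = 1 ∨ q % 3 = 2 := by
    have h5 : ¬ 3 ∣ q := by
      rw [hs]
      intro h
      have := (Nat.prime_dvd_prime_iff_eq Nat.prime_three Nat.prime_two).1 (Nat.prime_three.dvd_of_dvd_pow h)
      omega
    omega
  rcases h3 with h3 | h3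
  · obtain ⟨c, hc, hc1, -, hz, t, ht, ht1, ht2⟩ := exists_one_herm hq h3
    obtain ⟨W₁, -, hW₁⟩ := Om_of_le _ hW (show 1 ≤ 2 by omega)
    let _ := Fintype.ofFinite ((CForm.hermF F hq (2 + (2 + m))).Om 1)
    exact psu_row hF hq (by omega) one_pos hW₁ hc hz (odd_Om_one _ hW₁ (Or.inl ⟨1, one_ne_zero, hT⟩))
      (isIrr_sg_one _ (hdet_herm hF hq _) hc.irr hc1 hW₁ ht ht1 ht2)
  · obtain ⟨c, hc, hne, hz⟩ := exists_two_herm hq h3
    let _ := Fintype.ofFinite ((CForm.hermF F hq (2 + (2 + m))).Om 2)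
    exact psu_row hF hq (by omega) two_pos hW hc (fun z _ => hz z) (odd_Om_two _ hW (Or.inl ⟨1, one_ne_zero, hT⟩))
      (isIrr_sg_two _ (hdet_herm hF hq _) hc.irr hc.cusp hne hz hW)

end Cfsg.Agent.H328.Gow
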