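import Cfsg.Agent.H328.Gow.Van
import Cfsg.Agent.H477.HC.Stab

/-!
# Inner products of Harish-Chandra induced characters of classical groups (S4913, helper328)

`hcf F c = F.hc c 1`; `inner_hcf` : `⟨hcf c, hcf c'⟩ = ⟨c, c'⟩ + ⟨c, c' ∘ ι⟩` for cuspidal irreducible characters
`c`, `c'` of `GL_k(K)`, `c ≠ 1`.
-/

set_option autoImplicit false
set_option linter.style.haveILetI false

open scoped ComplexConjugate
open Cfsg

namespace Cfsg.Agent.H328.Gow

open Cfsg.Agent.OddOrderCharacters.Clifford Cfsg.Agent.Characters MulAction Module Cfsg.Agent.H53.HC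
  Cfsg.Agent.H477.HC

universe u v w

theorem sum_comp_inner {L U : Type*} [Group L] [Group U] [Fintype L] [Fintype U] (f : L →* U)
    (hf : Function.Surjective f) (a b : U → ℂ) :
    ∑ l : L, a (f l) * conj (b (f l)) = (Nat.card L : ℂ) * classInner a b := by
  have h1 := sum_comp_hom f hf (fun u => a u * conj (b u))
  have h2 : (Nat.card L : ℂ) = (Nat.card f.ker : ℂ) * (Nat.card U : ℂ) := by
    rw [← Nat.cast_mul]
    congr 1
    rw [← Nat.card_congr (QuotientGroup.quotientKerEquivOfSurjective f hf).toEquiv, mul_comm,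
      ← Subgroup.card_eq_card_quotient_mul_card_subgroup]
  change ∑ l : L, (fun u => a u * conj (b u)) (f l) = _
  rw [h1, h2, classInner_apply, mul_assoc, mul_inv_cancel_left₀ card_ne_zero']

variable {K : Type u} [Field K] {V : Type v} [AddCommGroup V] [Module K V] (F : CForm K V)

/-- the Harish-Chandra induced function -/
noncomputable def hcf {k : ℕ} [Fintype (F.Om k)] (c : GL (Fin k) K → ℂ) : F.iso → ℂ := F.hc c (fun _ _ => 1)

theorem hcf_apply {k : ℕ} [Fintype (F.Om k)] (c : GL (Fin k) K → ℂ) (g : F.iso) :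
    hcf F c g = ∑ W : F.Om k, flagTerm F.iso.subtype c g W.1 := by
  unfold hcf CForm.hc
  simp only [mul_one]

/-- the local inner product -/
noncomputable def locM [Fintype F.iso] {k : ℕ} (c c' : GL (Fin k) K → ℂ) (W W' : Submodule K V) : ℂ :=
  ∑ g : F.iso, flagTerm F.iso.subtype c g W * conj (flagTerm F.iso.subtype c' g W')

theorem flagTerm_not {k : ℕ} (c : GL (Fin k) K → ℂ) {g : F.iso} {W : Submodule K V}
    (h : W.map (F.iso.subtype g : V →ₗ[K] V) ≠ W) : flagTerm F.iso.subtype c g W = 0 := by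
  unfold flagTerm
  rw [dif_neg h]

theorem locM_conj [Fintype F.iso] {k : ℕ} {c c' : GL (Fin k) K → ℂ} (hc : IsClassFunction _ c)
    (hc' : IsClassFunction _ c') (W W' : Submodule K V) (x : F.iso) :
    locM F c c' (W.map (F.iso.subtype x : V →ₗ[K] V)) (W'.map (F.iso.subtype x : V →ₗ[K] V)) = locM F c c' W W' := by
  unfold locM
  refine (Fintype.sum_equiv (MulAut.conj x).toEquiv _ _ fun g => ?_).symm
  change _ = flagTerm F.iso.subtype c (x * g * x⁻¹) _ * conj (flagTerm F.iso.subtype c' (x * g * x⁻¹) _)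
  rw [flagTerm_conj F.iso.subtype hc, flagTerm_conj F.iso.subtype hc']

theorem inner_eq_sum [Fintype F.iso] [FiniteDimensional K V] {k : ℕ} [Fintype (F.Om k)] {c c' : GL (Fin k) K → ℂ}
    (hc : IsClassFunction _ c)
    (hc' : IsClassFunction _ c') {W₀ : Submodule K V} (hW₀ : W₀ ∈ F.Om k) :
    (Nat.card F.iso : ℂ) * classInner (hcf F c) (hcf F c') =
      (Nat.card (F.Om k) : ℂ) * ∑ W' : F.Om k, locM F c c' W₀ W'.1 := by
  classical
  letI := subAct F.iso.subtype (F.Om k) F.Om_map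
  rw [classInner_apply, mul_inv_cancel_left₀ card_ne_zero']
  have h1 : ∀ g : F.iso, hcf F c g * conj (hcf F c' g) = ∑ W : F.Om k, ∑ W' : F.Om k,
      flagTerm F.iso.subtype c g W.1 * conj (flagTerm F.iso.subtype c' g W'.1) := by
    intro g
    rw [hcf_apply, hcf_apply, map_sum, Finset.sum_mul_sum]
  rw [Finset.sum_congr rfl fun g _ => h1 g, Finset.sum_comm]
  have h2 : ∀ W : F.Om k, ∑ g : F.iso, ∑ W' : F.Om k,
      flagTerm F.iso.subtype c g W.1 * conj (flagTerm F.iso.subtype c' g W'.1) =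
      ∑ W' : F.Om k, locM F c c' W₀ W'.1 := by
    intro W
    rw [Finset.sum_comm]
    obtain ⟨x, hx⟩ := F.trans_Om hW₀ W.2
    refine (Fintype.sum_equiv (MulAction.toPerm x) _ _ fun W' => ?_).symm
    change locM F c c' W₀ W'.1 = locM F c c' W.1 (W'.1.map (F.iso.subtype x : V →ₗ[K] V))
    rw [← hx, locM_conj F hc hc']
  rw [Finset.sum_congr rfl fun W _ => h2 W, Finset.sum_const, Finset.card_univ, ← Nat.card_eq_fintype_card,
    nsmul_eq_mul]

variable {F}

/-- the local inner product vanishes -/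
theorem locM_eq_zero [Fintype F.iso] [Finite K] {k : ℕ} {c c' : GL (Fin k) K → ℂ} (hc : IsIrrCharacter _ c)
    (hc' : IsIrrCharacter _ c') {W₀ W' : Submodule K V} (hW₀ : finrank K W₀ = k) (hW' : finrank K W' = k)
    {G' : Subgroup F.iso} [FiniteDimensional K V]
    (h : Van2 F G' c c' W₀ W') : locM F c c' W₀ W' = 0 := by
  classical
  have hcf := Core.isIrr_isClassFunction hc
  have hcf' := Core.isIrr_isClassFunction hc'
  have b₀ : Basis (Fin k) K W₀ := finBasisOfFinrankEq K W₀ hW₀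
  have b₁ : Basis (Fin k) K W' := finBasisOfFinrankEq K W' hW'
  obtain ⟨D, hD⟩ : ∃ D : Subgroup F.iso, D = stabW F.iso.subtype W₀ ⊓ stabW F.iso.subtype W' := ⟨_, rfl⟩
  have hD1 : D ≤ stabW F.iso.subtype W₀ := by rw [hD]; exact inf_le_left
  have hD2 : D ≤ stabW F.iso.subtype W' := by rw [hD]; exact inf_le_right
  let _ : Fintype D := Fintype.ofFinite D
  let f : D →* GL (Fin k) K := (glE b₀).toMonoidHom.comp ((resHom F.iso.subtype W₀).comp (Subgroup.inclusion hD1))
  let f' : D →* GL (Fin k) K := (glE b₁).toMonoidHom.comp ((resHom F.iso.subtype W').comp (Subgroup.inclusion hD2))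
  have hf : ∀ d : D, flagTerm F.iso.subtype c d W₀ = c (f d) := by
    intro d
    rw [flagTerm_of F.iso.subtype c (hD1 d.2), cl_eq hcf b₀]
    rfl
  have hf' : ∀ d : D, flagTerm F.iso.subtype c' d W' = c' (f' d) := by
    intro d
    rw [flagTerm_of F.iso.subtype c' (hD2 d.2), cl_eq hcf' b₁]
    rfl
  obtain ⟨L, -, hL1, hL2, hL3⟩ := h
  let _ : Fintype L := Fintype.ofFinite L
  have hLD : L ≤ D := by rw [hD]; exact le_inf hL1 hL2
  have h1 : classInner (c ∘ f) (c' ∘ f') = 0 := by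
    refine classInner_eq_zero_of_comp (Subgroup.inclusion hLD)
      (Core.isCharacter_comp f (Core.isIrr_isCharacter hc)) (Core.isCharacter_comp f' (Core.isIrr_isCharacter hc')) ?_
    rw [classInner_apply]
    rw [show ∑ l : L, ((c ∘ f) ∘ (Subgroup.inclusion hLD)) l * conj (((c' ∘ f') ∘ (Subgroup.inclusion hLD)) l) = 0 from ?_,
      mul_zero]
    rw [← hL3]
    refine Finset.sum_congr rfl fun l _ => ?_
    have e1 := hf (Subgroup.inclusion hLD l)
    have e2 := hf' (Subgroup.inclusion hLD l)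
    change c (f (Subgroup.inclusion hLD l)) * conj (c' (f' (Subgroup.inclusion hLD l))) = _
    rw [← e1, ← e2]
    rfl
  unfold locM
  rw [sum_eq_sum_subgroup D]
  · rw [classInner_apply] at h1
    have h2 := (mul_eq_zero.1 h1).resolve_left (inv_ne_zero card_ne_zero')
    rw [← h2]
    refine Finset.sum_congr rfl fun d _ => ?_
    rw [hf, hf']
    rfl
  · intro g hg
    rw [hD, Subgroup.mem_inf, not_and_or] at hg
    rcases hg with hg | hg
    · rw [flagTerm_not F c hg, zero_mul]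
    · rw [flagTerm_not F c' hg, map_zero, mul_zero]

theorem exists_levi_mat [FiniteDimensional K V] {k : ℕ} {W₀ W' : Submodule K V} (hW₀ : W₀ ∈ F.Om k)
    (hW' : W' ∈ F.Om k) (h0 : W₀ ⊓ F.perp W' = ⊥) (b : Basis (Fin k) K W₀) (A : GL (Fin k) K) :
    ∃ (g : F.iso) (h : W₀.map (F.iso.subtype g : V →ₗ[K] V) = W₀), W'.map (F.iso.subtype g : V →ₗ[K] V) = W' ∧
      glE b (res (F.iso.subtype g) W₀ h) = A := by
  have h0' := CForm.opp_symm hW₀.2 hW'.2 h0
  obtain ⟨a, rfl⟩ := (glE b).surjective A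
  obtain ⟨g, hg1, -, -, hg2⟩ := F.exists_levi hW₀.1 hW'.1
    (fun w hw hw' => by
      have : w ∈ W₀ ⊓ F.perp W' := ⟨hw, hw'⟩
      rw [h0] at this
      exact (Submodule.mem_bot K).1 this)
    (fun w hw hw' => by
      have : w ∈ W' ⊓ F.perp W₀ := ⟨hw, fun w' hw'' => F.B_eq_zero (hw' w' hw'')⟩
      rw [h0'] at this
      exact (Submodule.mem_bot K).1 this) a
  refine ⟨g, hg2.1.1, hg2.2.1, ?_⟩
  congr 1
  ext w
  exact hg1 w

/-- the diagonal term -/
theorem locM_self [Fintype F.iso] [Finite K] [FiniteDimensional K V] {k : ℕ} [Fintype (GL (Fin k) K)]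
    {c c' : GL (Fin k) K → ℂ} (hcf : IsClassFunction _ c)
    (hcf' : IsClassFunction _ c') {W₀ : Submodule K V} (hW₀ : W₀ ∈ F.Om k) :
    locM F c c' W₀ W₀ = (Nat.card (stabW F.iso.subtype W₀) : ℂ) * classInner c c' := by
  classical
  let b₀ : Basis (Fin k) K W₀ := finBasisOfFinrankEq K W₀ hW₀.2
  obtain ⟨W', hW', h0⟩ := F.exists_opp hW₀
  let _ : Fintype (stabW F.iso.subtype W₀) := Fintype.ofFinite _
  let f : stabW F.iso.subtype W₀ →* GL (Fin k) K := (glE b₀).toMonoidHom.comp (resHom F.iso.subtype W₀)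
  have hf : ∀ (c : GL (Fin k) K → ℂ), IsClassFunction _ c → ∀ d : stabW F.iso.subtype W₀,
      flagTerm F.iso.subtype c d W₀ = c (f d) := by
    intro c hc d
    rw [flagTerm_of F.iso.subtype c d.2, cl_eq hc b₀]
    rfl
  have hsurj : Function.Surjective f := by
    intro A
    obtain ⟨g, h, -, hg⟩ := exists_levi_mat hW₀ hW' h0 b₀ A
    exact ⟨⟨g, h⟩, hg⟩
  unfold locM
  rw [sum_eq_sum_subgroup (stabW F.iso.subtype W₀)]
  · rw [← sum_comp_inner f hsurj c c']
    refine Finset.sum_congr rfl fun d _ => ?_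
    rw [hf c hcf, hf c' hcf']
  · intro g hg
    rw [flagTerm_not F c hg, zero_mul]

/-- the term of an opposite subspace -/
theorem locM_opp [Fintype F.iso] [Finite K] [FiniteDimensional K V] {k : ℕ} [Fintype (GL (Fin k) K)]
    {c c' : GL (Fin k) K → ℂ} (hcf : IsClassFunction _ c)
    (hcf' : IsClassFunction _ c') {W₀ W' : Submodule K V} (hW₀ : W₀ ∈ F.Om k) (hW' : W' ∈ F.Om k)
    (h0 : W₀ ⊓ F.perp W' = ⊥) :
    locM F c c' W₀ W' = (Nat.card (stabW F.iso.subtype W₀ ⊓ stabW F.iso.subtype W' : Subgroup F.iso) : ℂ) *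
      classInner c (c' ∘ F.iota k) := by
  classical
  obtain ⟨b, b', hb⟩ := CForm.exists_dual_basis hW₀.2 hW'.2 h0
  obtain ⟨D, hD⟩ : ∃ D : Subgroup F.iso, D = stabW F.iso.subtype W₀ ⊓ stabW F.iso.subtype W' := ⟨_, rfl⟩
  have hD1 : D ≤ stabW F.iso.subtype W₀ := by rw [hD]; exact inf_le_left
  have hD2 : D ≤ stabW F.iso.subtype W' := by rw [hD]; exact inf_le_right
  rw [← hD]
  let _ : Fintype D := Fintype.ofFinite D
  let f : D →* GL (Fin k) K := (glE b).toMonoidHom.comp ((resHom F.iso.subtype W₀).comp (Subgroup.inclusion hD1))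
  have hf : ∀ d : D, flagTerm F.iso.subtype c d W₀ = c (f d) := by
    intro d
    rw [flagTerm_of F.iso.subtype c (hD1 d.2), cl_eq hcf b]
    rfl
  have hf' : ∀ d : D, flagTerm F.iso.subtype c' d W' = (c' ∘ F.iota k) (f d) := by
    intro d
    rw [flagTerm_of F.iso.subtype c' (hD2 d.2), cl_eq hcf' b', CForm.glE_opp hb (hD1 d.2) (hD2 d.2)]
    rfl
  have hsurj : Function.Surjective f := by
    intro A
    obtain ⟨g, h, h', hg⟩ := exists_levi_mat hW₀ hW' h0 b A
    exact ⟨⟨g, by rw [hD]; exact ⟨h, h'⟩⟩, hg⟩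
  unfold locM
  rw [sum_eq_sum_subgroup D]
  · rw [← sum_comp_inner f hsurj c (c' ∘ F.iota k)]
    refine Finset.sum_congr rfl fun d _ => ?_
    rw [hf, hf']
  · intro g hg
    rw [hD, Subgroup.mem_inf, not_and_or] at hg
    rcases hg with hg | hg
    · rw [flagTerm_not F c hg, zero_mul]
    · rw [flagTerm_not F c' hg, map_zero, mul_zero]

/-- the number of opposites -/
theorem card_opp [Finite V] [FiniteDimensional K V] {k : ℕ} {W₀ W₁ : Submodule K V} (hW₀ : W₀ ∈ F.Om k)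
    (hW₁ : W₁ ∈ F.Om k) (h0 : W₀ ⊓ F.perp W₁ = ⊥) :
    Nat.card {W' : F.Om k // W₀ ⊓ F.perp W'.1 = ⊥} *
      Nat.card (stabW F.iso.subtype W₀ ⊓ stabW F.iso.subtype W₁ : Subgroup F.iso) =
      Nat.card (stabW F.iso.subtype W₀) := by
  classical
  have : Finite (V ≃ₗ[K] V) := Finite.of_injective (fun e : V ≃ₗ[K] V => (e : V → V)) DFunLike.coe_injective
  let T := stabW F.iso.subtype W₀
  have hperp : ∀ (g : F.iso) (W : Submodule K V), (F.perp W).map (F.iso.subtype g : V →ₗ[K] V) =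
      F.perp (W.map (F.iso.subtype g : V →ₗ[K] V)) := by
    intro g W
    ext v
    constructor
    · rintro ⟨x, hx, rfl⟩ _ ⟨w, hw, rfl⟩
      exact (F.iso_B g x w).trans (hx w hw)
    · intro hv
      refine ⟨(g : V ≃ₗ[K] V).symm v, fun w hw => ?_, (g : V ≃ₗ[K] V).apply_symm_apply v⟩
      rw [← F.iso_B g, (g : V ≃ₗ[K] V).apply_symm_apply]
      exact hv _ ⟨w, hw, rfl⟩
  have hopp : ∀ (g : T) (W : Submodule K V), W₀ ⊓ F.perp W = ⊥ →
      W₀ ⊓ F.perp (W.map (F.iso.subtype (g : F.iso) : V →ₗ[K] V)) = ⊥ := by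
    intro g W h
    have h1 : W₀.map (F.iso.subtype (g : F.iso) : V →ₗ[K] V) = W₀ := g.2
    rw [← hperp]
    conv_lhs => rw [← h1]
    rw [← Submodule.map_inf _ (F.iso.subtype (g : F.iso)).injective, h, Submodule.map_bot]
  letI act : MulAction T {W' : F.Om k // W₀ ⊓ F.perp W'.1 = ⊥} :=
    { smul := fun g W => ⟨⟨W.1.1.map (F.iso.subtype (g : F.iso) : V →ₗ[K] V), F.Om_map g W.1.1 W.1.2⟩,
        hopp g W.1.1 W.2⟩
      one_smul := fun W => by
        apply Subtype.ext
        apply Subtype.ext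
        exact Submodule.map_id _
      mul_smul := fun g h W => by
        apply Subtype.ext
        apply Subtype.ext
        exact map_mul_apply F.iso.subtype (g : F.iso) (h : F.iso) W.1.1 }
  have htr : IsPretransitive T {W' : F.Om k // W₀ ⊓ F.perp W'.1 = ⊥} := by
    refine ⟨fun W W' => ?_⟩
    obtain ⟨g, hg1, hg2⟩ := exists_opp_move F hW₀ W.1.2 W'.1.2 W.2 W'.2
    refine ⟨⟨g, map_eq_of_le F.iso.subtype fun w hw => ?_⟩, ?_⟩
    · change (g : V ≃ₗ[K] V) w ∈ W₀
      rw [hg1 w hw]; exact hw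
    · apply Subtype.ext
      apply Subtype.ext
      exact hg2
  let x₁ : {W' : F.Om k // W₀ ⊓ F.perp W'.1 = ⊥} := ⟨⟨W₁, hW₁⟩, h0⟩
  have h1 : Nat.card (stabilizer T x₁) = Nat.card (stabW F.iso.subtype W₀ ⊓ stabW F.iso.subtype W₁ : Subgroup F.iso) := by
    refine Nat.card_congr ⟨fun g => ⟨g.1.1, g.1.2, ?_⟩, fun g => ⟨⟨g.1, g.2.1⟩, ?_⟩, fun g => rfl, fun g => rfl⟩
    · have := mem_stabilizer_iff.1 g.2
      exact congrArg (fun z : {W' : F.Om k // W₀ ⊓ F.perp W'.1 = ⊥} => z.1.1) this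
    · rw [mem_stabilizer_iff]
      apply Subtype.ext
      apply Subtype.ext
      exact g.2.2
  rw [← h1, ← Nat.card_univ, ← MulAction.orbit_eq_univ T x₁, mul_comm]
  change _ = Nat.card T
  rw [Subgroup.card_eq_card_quotient_mul_card_subgroup (stabilizer T x₁), mul_comm]
  congr 1
  exact Nat.card_congr (MulAction.orbitEquivQuotientStabilizer T x₁)

variable (F)

/-- **the inner product formula** -/
theorem inner_hcf [Fintype F.iso] [Finite K] [FiniteDimensional K V] [Finite V] {k : ℕ} (hk : 0 < k)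
    [Fintype (GL (Fin k) K)]
    [Fintype (F.Om k)]
    {c c' : GL (Fin k) K → ℂ} (hc : IsIrrCharacter _ c) (hc1 : c ≠ 1) (hcusp : IsCusp c) (hc' : IsIrrCharacter _ c')
    {W₀ : Submodule K V} (hW₀ : W₀ ∈ F.Om k) :
    classInner (hcf F c) (hcf F c') = classInner c c' + classInner c (c' ∘ F.iota k) := by
  classical
  have hcf := Core.isIrr_isClassFunction hc
  have hcf' := Core.isIrr_isClassFunction hc'
  have h1 := inner_eq_sum F hcf hcf' hW₀
  have h2 := F.card_iso_eq hW₀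
  obtain ⟨W₁, hW₁, h0⟩ := F.exists_opp hW₀
  have hself : ¬ (W₀ ⊓ F.perp W₀ = ⊥) := by
    intro h
    have h3 : W₀ ⊓ F.perp W₀ = W₀ := inf_eq_left.2 hW₀.1.le_perp
    rw [h3] at h
    have h4 := hW₀.2
    rw [h, finrank_bot] at h4
    omega
  have hM : ∀ W' : F.Om k, locM F c c' W₀ W'.1 =
      (if W' = ⟨W₀, hW₀⟩ then (Nat.card (stabW F.iso.subtype W₀) : ℂ) * classInner c c' else 0) +
      (if W₀ ⊓ F.perp W'.1 = ⊥ then
        (Nat.card (stabW F.iso.subtype W₀ ⊓ stabW F.iso.subtype W₁ : Subgroup F.iso) : ℂ) *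
          classInner c (c' ∘ F.iota k) else 0) := by
    rintro ⟨W', hW'⟩
    by_cases h3 : W' = W₀
    · subst h3
      rw [if_pos rfl, if_neg hself, add_zero, locM_self hcf hcf' hW₀]
    · rw [if_neg (fun h => h3 (congrArg Subtype.val h)), zero_add]
      by_cases h4 : W₀ ⊓ F.perp W' = ⊥
      · rw [if_pos h4, locM_opp hcf hcf' hW₀ hW' h4]
        have h5 := card_opp hW₀ hW₁ h0
        have h6 := card_opp hW₀ hW' h4
        have h7 : 0 < Nat.card {W' : F.Om k // W₀ ⊓ F.perp W'.1 = ⊥} := by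
          have : Nonempty {W' : F.Om k // W₀ ⊓ F.perp W'.1 = ⊥} := ⟨⟨⟨W', hW'⟩, h4⟩⟩
          exact Nat.card_pos
        have h8 := Nat.eq_of_mul_eq_mul_left h7 (h5.trans h6.symm)
        rw [h8]
      · rw [if_neg h4]
        exact locM_eq_zero hc hc' hW₀.2 hW'.2 (van2_top hc hc1 hcusp hcf' hW₀ hW' h3 h4)
  rw [Finset.sum_congr rfl fun W' _ => hM W', Finset.sum_add_distrib, Finset.sum_ite_eq' Finset.univ, 
    if_pos (Finset.mem_univ _), ← Finset.sum_filter, Finset.sum_const] at h1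
  have h5 := card_opp hW₀ hW₁ h0
  have h6 : (Finset.univ.filter (fun W' : F.Om k => W₀ ⊓ F.perp W'.1 = ⊥)).card =
      Nat.card {W' : F.Om k // W₀ ⊓ F.perp W'.1 = ⊥} := by
    rw [Nat.card_eq_fintype_card, Fintype.card_subtype]
  rw [h6, nsmul_eq_mul, ← mul_assoc (Nat.card {W' : F.Om k // W₀ ⊓ F.perp W'.1 = ⊥} : ℂ), ← Nat.cast_mul, h5,
    ← mul_add, ← mul_assoc, ← Nat.cast_mul, ← h2] at h1
  exact mul_left_cancel₀ card_ne_zero' h1

end Cfsg.Agent.H328.Gow
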