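import Cfsg.Agent.H328.Gow.Rat

/-!
# Harish-Chandra induced characters restricted to the special isometry group, characteristic two (S4913, helper328)

* `sg F` : the isometries of determinant one; `root_mem_sg`, `exists_dil`, `trans_sg`;
* `isIrr_N` : criterion for the irreducibility of the restriction of `hcf F c` to a subgroup `N`;
* `isIrr_sg_one`, `isIrr_sg_two` : irreducibility on `sg F`, `k = 1`, `k = 2`.
-/

set_option autoImplicit false
set_option linter.style.haveILetI false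

open scoped ComplexConjugate
open Cfsg

namespace Cfsg.Agent.H328.Gow

open Cfsg.Agent.OddOrderCharacters.Clifford Cfsg.Agent.Characters MulAction Module Cfsg.Agent.H53.HC
  Cfsg.Agent.H477.HC

universe u v w

section Linear

variable {G : Type*} [Group G]

/-- characters of degree one are irreducible -/
theorem isIrr_of_one {χ : G → ℂ} (hχ : IsCharacter G χ) (h : χ 1 = 1) : IsIrrCharacter G χ := by
  obtain ⟨n, ρ, rfl⟩ := hχ
  rw [Representation.char_one, finrank_fin_fun, Nat.cast_eq_one] at h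
  subst h
  exact ⟨1, ρ, Core.isIrr_of_finrank_one (finrank_fin_fun ℂ) ρ, rfl⟩

end Linear

section SL

variable {K : Type u} [Field K] [Finite K] [CharP K 2]

theorem exists_sqrt_unit (d : Kˣ) : ∃ y : Kˣ, y ^ 2 = d := by
  have h1 : Function.Injective (fun x : K => x ^ 2) := by
    intro x y hxy
    change x ^ 2 = y ^ 2 at hxy
    have h2 : (x - y) ^ 2 = 0 := by
      have h3 : (2 : K) = 0 := by exact_mod_cast CharP.cast_eq_zero K 2
      linear_combination hxy + (y ^ 2 - x * y) * h3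
    exact sub_eq_zero.1 (pow_eq_zero_iff two_ne_zero |>.1 h2)
  obtain ⟨x, hx⟩ := (Finite.injective_iff_surjective.1 h1) (d : K)
  change x ^ 2 = d at hx
  have hx0 : x ≠ 0 := by
    rintro rfl
    rw [zero_pow two_ne_zero] at hx
    exact d.ne_zero hx.symm
  exact ⟨Units.mk0 x hx0, Units.ext (by rw [Units.val_pow_eq_pow_val, Units.val_mk0, hx])⟩

variable {L : Type*} [Group L] [Finite L] (f : L →* GL (Fin 2) K)
  (hf : ∀ A : Matrix.SpecialLinearGroup (Fin 2) K, ∃ l, f l = Matrix.SpecialLinearGroup.toGL A)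

include hf

omit [Finite L] in
theorem cover_SL (A : GL (Fin 2) K) : ∃ (z : Kˣ) (l : L), A = Matrix.GeneralLinearGroup.scalar (Fin 2) z * f l := by
  obtain ⟨y, hy⟩ := exists_sqrt_unit (Matrix.GeneralLinearGroup.det A)
  obtain ⟨B, hB⟩ : ∃ B : Matrix.SpecialLinearGroup (Fin 2) K, Matrix.SpecialLinearGroup.toGL B =
      Matrix.GeneralLinearGroup.scalar (Fin 2) y⁻¹ * A := by
    have h1 : Matrix.GeneralLinearGroup.det (Matrix.GeneralLinearGroup.scalar (Fin 2) y⁻¹ * A) = 1 := by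
      rw [map_mul, Matrix.GeneralLinearGroup.det_scalar, Fintype.card_fin, ← hy, inv_pow, inv_mul_cancel]
    exact ⟨⟨_, congrArg Units.val h1⟩, Units.ext rfl⟩
  obtain ⟨l, hl⟩ := hf B
  refine ⟨y, l, ?_⟩
  rw [hl, hB, ← mul_assoc, ← map_mul, mul_inv_cancel, map_one, one_mul]

/-- irreducibility on a subgroup containing `SL_2(K)` -/
theorem isIrr_comp_SL {c : GL (Fin 2) K → ℂ} (hc : IsIrrCharacter _ c)
    (hz : ∀ z : Kˣ, c (Matrix.GeneralLinearGroup.scalar (Fin 2) z) = c 1) : IsIrrCharacter L (c ∘ f) := by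
  classical
  let _ := Fintype.ofFinite L
  let _ := Fintype.ofFinite K
  let φ : Kˣ × L →* GL (Fin 2) K :=
    { toFun := fun p => f p.2 * Matrix.GeneralLinearGroup.scalar (Fin 2) p.1
      map_one' := by rw [Prod.fst_one, Prod.snd_one, map_one, map_one, one_mul]
      map_mul' := fun p q => by
        rw [Prod.fst_mul, Prod.snd_mul, map_mul, map_mul]
        have h1 := Matrix.GeneralLinearGroup.scalar_commute (n := Fin 2) p.1 (f q.2)
        calc f p.2 * f q.2 * (Matrix.GeneralLinearGroup.scalar (Fin 2) p.1 * Matrix.GeneralLinearGroup.scalar (Fin 2) q.1)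
            = f p.2 * (f q.2 * Matrix.GeneralLinearGroup.scalar (Fin 2) p.1) *
              Matrix.GeneralLinearGroup.scalar (Fin 2) q.1 := by group
          _ = _ := by rw [← h1]; group }
  have hφ : Function.Surjective φ := by
    intro A
    obtain ⟨z, l, rfl⟩ := cover_SL f hf A
    exact ⟨(z, l), (Matrix.GeneralLinearGroup.scalar_commute (n := Fin 2) z (f l)).symm⟩
  have h1 : IsIrrCharacter _ (c ∘ φ) := Core.isIrr_comp φ hφ hc
  have h2 : c ∘ φ = (c ∘ f) ∘ (MonoidHom.snd Kˣ L) := by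
    ext p
    exact kernel_mul (Core.isIrr_isCharacter hc) (hz p.1) (f p.2)
  apply Core.isIrr_of_classInner_self (Core.isCharacter_comp f (Core.isIrr_isCharacter hc))
  have h3 := Core.classInner_irr_self h1
  rw [h2, classInner_apply] at h3
  have h4 := sum_comp_inner (MonoidHom.snd Kˣ L) (fun l => ⟨(1, l), rfl⟩) (c ∘ f) (c ∘ f)
  rw [show ∑ g : Kˣ × L, ((c ∘ f) ∘ (MonoidHom.snd Kˣ L)) g * conj (((c ∘ f) ∘ (MonoidHom.snd Kˣ L)) g) = _ from h4,
    inv_mul_cancel_left₀ card_ne_zero'] at h3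
  exact h3

omit [Finite L] in
/-- distinct characters, trivial on the scalars, have distinct restrictions -/
theorem comp_SL_ne {c c' : GL (Fin 2) K → ℂ} (hc : IsIrrCharacter _ c) (hc' : IsIrrCharacter _ c')
    (hz : ∀ z : Kˣ, c (Matrix.GeneralLinearGroup.scalar (Fin 2) z) = c 1)
    (hz' : ∀ z : Kˣ, c' (Matrix.GeneralLinearGroup.scalar (Fin 2) z) = c' 1) (hne : c ≠ c') : c ∘ f ≠ c' ∘ f := by
  intro h
  apply hne
  ext A
  obtain ⟨z, l, rfl⟩ := cover_SL f hf A
  rw [Matrix.GeneralLinearGroup.scalar_commute, kernel_mul (Core.isIrr_isCharacter hc) (hz z),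
    kernel_mul (Core.isIrr_isCharacter hc') (hz' z)]
  exact congrFun h l

end SL

variable {K : Type u} [Field K] {V : Type v} [AddCommGroup V] [Module K V] (F : CForm K V)

/-- isometries of determinant one -/
noncomputable def sg : Subgroup F.iso := (LinearEquiv.det.comp F.iso.subtype).ker

theorem mem_sg {g : F.iso} : g ∈ sg F ↔ LinearMap.det ((g : V ≃ₗ[K] V) : V →ₗ[K] V) = 1 := by
  unfold sg
  rw [MonoidHom.mem_ker, MonoidHom.comp_apply, ← Units.val_inj, LinearEquiv.coe_det, Units.val_one]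
  rfl

theorem root_mem_sg [CharP K 2] {g : F.iso} (hg : IsRoot F g) : g ∈ sg F := by
  obtain ⟨c, b, hc, hb, hcb, h⟩ := hg
  have hbc := F.B_eq_zero hcb
  rw [mem_sg]
  have h2 : (2 : K) = 0 := by exact_mod_cast CharP.cast_eq_zero K 2
  have h1 : ((g : V ≃ₗ[K] V) : V →ₗ[K] V) * ((g : V ≃ₗ[K] V) : V →ₗ[K] V) = 1 := by
    ext v
    change (g : V ≃ₗ[K] V) ((g : V ≃ₗ[K] V) v) = v
    rw [h ((g : V ≃ₗ[K] V) v), h v]
    simp only [F.B_sub_left, F.B_add_left, F.B_smul_left, hcb, hbc, hc.2, hb.2, mul_zero, add_zero, sub_zero]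
    have e1 : v + F.B v b • c - (F.ε⁻¹ * F.B v c) • b + F.B v b • c - (F.ε⁻¹ * F.B v c) • b =
        v + ((2 : K) * F.B v b) • c - ((2 : K) * (F.ε⁻¹ * F.B v c)) • b := by module
    rw [e1, h2, zero_mul, zero_mul, zero_smul, zero_smul, add_zero, sub_zero]
  have h3 := congrArg LinearMap.det h1
  rw [map_mul, map_one] at h3
  have h4 : (LinearMap.det ((g : V ≃ₗ[K] V) : V →ₗ[K] V) - 1) ^ 2 = 0 := by
    linear_combination h3 + (1 - LinearMap.det ((g : V ≃ₗ[K] V) : V →ₗ[K] V)) * h2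
  exact sub_eq_zero.1 (pow_eq_zero_iff two_ne_zero |>.1 h4)

/-- the elements `e ↦ a e`, `f ↦ σ(a)⁻¹ f`, identity on the orthogonal complement -/
theorem exists_dil [FiniteDimensional K V] {e f : V} (he : F.Sing e) (hf : F.Sing f) (hef : F.B e f = 1) (a : Kˣ) :
    ∃ g : F.iso, (∀ v, (g : V ≃ₗ[K] V) v = v + (((a : K) - 1) * F.B v f) • e +
      (((F.σ a)⁻¹ - 1) * F.ε⁻¹ * F.B v e) • f) ∧
      LinearMap.det ((g : V ≃ₗ[K] V) : V →ₗ[K] V) = a * (F.σ a)⁻¹ := by
  have hfe : F.B f e = F.ε := by rw [F.B_symm, hef, map_one, mul_one]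
  have ha0 : (a : K) ≠ 0 := a.ne_zero
  have hσ0 : F.σ a ≠ 0 := (map_ne_zero F.σ).2 ha0
  have hε := F.ε_ne
  let φ₁ : Dual K V := ((a : K) - 1) • F.lf f
  let φ₂ : Dual K V := (((F.σ a)⁻¹ - 1) * F.ε⁻¹) • F.lf e
  let T : V →ₗ[K] V := LinearMap.transvection φ₁ e ∘ₗ LinearMap.transvection φ₂ f
  have hT : ∀ v, T v = v + (((a : K) - 1) * F.B v f) • e + (((F.σ a)⁻¹ - 1) * F.ε⁻¹ * F.B v e) • f := by
    intro v
    change LinearMap.transvection φ₁ e (LinearMap.transvection φ₂ f v) = _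
    rw [LinearMap.transvection.apply, LinearMap.transvection.apply]
    change v + ((((F.σ a)⁻¹ - 1) * F.ε⁻¹) • F.B v e) • f +
      (((a : K) - 1) • F.B (v + ((((F.σ a)⁻¹ - 1) * F.ε⁻¹) • F.B v e) • f) f) • e = _
    rw [F.B_add_left, F.B_smul_left, hf.2, mul_zero, add_zero]
    module
  have hdet : LinearMap.det T = a * (F.σ a)⁻¹ := by
    change LinearMap.det (LinearMap.transvection φ₁ e ∘ₗ LinearMap.transvection φ₂ f) = _
    rw [LinearMap.det_comp, LinearMap.transvection.det, LinearMap.transvection.det]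
    change (1 + ((a : K) - 1) • F.B e f) * (1 + (((F.σ a)⁻¹ - 1) * F.ε⁻¹) • F.B f e) = _
    rw [hef, hfe, smul_eq_mul, smul_eq_mul, mul_one, mul_assoc, inv_mul_cancel₀ hε]
    ring
  have hTB : ∀ u v, F.B (T u) (T v) = F.B u v := by
    intro u v
    rw [hT, hT]
    simp only [F.B_add_left, F.B_add_right, F.B_smul_left, F.B_smul_right, he.2, hf.2, hef, hfe, map_mul, map_sub,
      map_one, map_inv₀, F.σσ, F.σεi]
    rw [F.B_symm e v, F.B_symm f v]
    field_simp
    ring
  have hTQ : ∀ v, F.Q (T v) = F.Q v := by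
    intro v
    rw [hT, add_assoc, F.Q_add, F.Q_add, F.Q_smul, F.Q_smul, he.1, hf.1]
    simp only [F.B_add_right, F.B_smul_left, F.B_smul_right, hef, mul_zero, zero_add, map_mul, map_sub,
      map_one, map_inv₀, F.σσ, F.σεi, mul_one]
    rw [add_assoc, ← F.T_add]
    have key : (((a : K) - 1) * F.B v f * (((a : K)⁻¹ - 1) * F.ε * F.σ (F.B v e)) +
        ((F.σ a - 1) * F.σ (F.B v f) * F.B v e + ((a : K)⁻¹ - 1) * F.ε * F.σ (F.B v e) * F.B v f)) =
        (F.σ a - 1) * F.σ (F.B v f) * F.B v e - F.ε * F.σ ((F.σ a - 1) * F.σ (F.B v f) * F.B v e) := by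
      rw [map_mul, map_mul, map_sub, map_one, F.σσ, F.σσ]
      field_simp
      ring
    rw [key, F.T_sub, F.T_symm, sub_self, add_zero]
  obtain ⟨g, hg⟩ := F.exists_iso T hTB hTQ
  refine ⟨g, fun v => by rw [hg, hT], ?_⟩
  rw [← hdet]
  congr 1
  ext v
  exact hg v

end Cfsg.Agent.H328.Gow
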