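import Cfsg.Agent.H328.Gow.Nirr

/-!
# Irreducibility on the special isometry group, characteristic two (S4913, helper328)

`isIrr_sg_one`, `isIrr_sg_two`.
-/

set_option autoImplicit false
set_option linter.style.haveILetI false

open scoped ComplexConjugate
open Cfsg

namespace Cfsg.Agent.H328.Gow

open Cfsg.Agent.OddOrderCharacters.Clifford Cfsg.Agent.Characters MulAction Module Cfsg.Agent.H53.HC
  Cfsg.Agent.H477.HC

universe u v w

variable {K : Type u} [Field K] {V : Type v} [AddCommGroup V] [Module K V] (F : CForm K V)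

/-- transitivity of the special isometry group -/
theorem trans_sg [FiniteDimensional K V] (hdet : ∀ g : F.iso, ∃ a : Kˣ,
    LinearMap.det ((g : V ≃ₗ[K] V) : V →ₗ[K] V) = a * (F.σ a)⁻¹) {k : ℕ} (hk : 0 < k) {W₀ : Submodule K V}
    (hW₀ : W₀ ∈ F.Om k) : ∀ W ∈ F.Om k, ∃ g ∈ sg F, W₀.map (F.iso.subtype g : V →ₗ[K] V) = W := by
  intro W hW
  obtain ⟨g, hg⟩ := F.trans_Om hW₀ hW
  obtain ⟨a, ha⟩ := hdet g
  obtain ⟨W', hW', h0⟩ := F.exists_opp hW₀
  obtain ⟨b, b', hb⟩ := CForm.exists_dual_basis hW₀.2 hW'.2 h0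
  obtain ⟨d, hd, hd'⟩ := exists_dil F (hW₀.1.sing (b ⟨0, hk⟩).2) (hW'.1.sing (b' ⟨0, hk⟩).2) (by rw [hb, if_pos rfl]) a
  have hdW : W₀.map (F.iso.subtype d : V →ₗ[K] V) = W₀ := map_eq_of_le F.iso.subtype fun w hw => by
    change (d : V ≃ₗ[K] V) w ∈ W₀
    rw [hd, hW₀.1.2 w hw _ (b ⟨0, hk⟩).2, mul_zero, zero_smul, add_zero]
    exact W₀.add_mem hw (W₀.smul_mem _ (b ⟨0, hk⟩).2)
  refine ⟨g * d⁻¹, ?_, ?_⟩
  · have h1 : (LinearEquiv.det.comp F.iso.subtype) g = (LinearEquiv.det.comp F.iso.subtype) d := by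
      rw [MonoidHom.comp_apply, MonoidHom.comp_apply, ← Units.val_inj, LinearEquiv.coe_det, LinearEquiv.coe_det]
      exact ha.trans hd'.symm
    change (LinearEquiv.det.comp F.iso.subtype) (g * d⁻¹) = 1
    rw [map_mul, map_inv, h1, mul_inv_cancel]
  · rw [map_mul_apply, map_inv_of F.iso.subtype hdW, hg]

/-- **irreducibility on a subgroup** -/
theorem isIrr_N [Finite K] [FiniteDimensional K V] [Finite V] [Fintype F.iso] (N : Subgroup F.iso) {k : ℕ}
    [Fintype (F.Om k)] {c : GL (Fin k) K → ℂ} (hc : IsIrrCharacter _ c) {W₀ : Submodule K V} (hW₀ : W₀ ∈ F.Om k)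
    (htr : ∀ W ∈ F.Om k, ∃ g ∈ N, W₀.map (F.iso.subtype g : V →ₗ[K] V) = W)
    (hirr : IsIrrCharacter (N ⊓ stabW F.iso.subtype W₀ : Subgroup F.iso)
      (fun g => flagTerm F.iso.subtype c (g : F.iso) W₀))
    (hvan : ∀ W' ∈ F.Om k, W' ≠ W₀ → Van2 F N c c W₀ W') : IsIrrCharacter N (fun g : N => hcf F c g) := by
  classical
  have hcl := Core.isIrr_isClassFunction hc
  have hpre := isPretransitive_of F N htr
  let _ := Fintype.ofFinite N
  rw [hcf_eq_orbSum F N c]
  letI := subAct (F.iso.subtype.comp N.subtype) (F.Om k) (fun g => F.Om_map g)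
  have hst : ∀ (g : N) (W : F.Om k), g ∈ stabilizer N W ↔ (g : F.iso) ∈ stabW F.iso.subtype W.1 := fun g W =>
    ⟨fun h => congrArg Subtype.val (mem_stabilizer_iff.1 h), fun h => mem_stabilizer_iff.2 (Subtype.ext h)⟩
  refine isIrr_orbSum (fun (g : N) (W : F.Om k) => flagTerm F.iso.subtype c (g : F.iso) W.1) (fun x g W => ?_)
    ⟨W₀, hW₀⟩ ?_ ?_
  · exact flagTerm_conj F.iso.subtype hcl (x : F.iso) (g : F.iso) W.1
  · let f : stabilizer N (⟨W₀, hW₀⟩ : F.Om k) →* (N ⊓ stabW F.iso.subtype W₀ : Subgroup F.iso) :=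
      { toFun := fun g => ⟨(g : N), (g : N).2, (hst _ _).1 g.2⟩
        map_one' := rfl
        map_mul' := fun _ _ => rfl }
    have hf : Function.Surjective f := fun g => ⟨⟨⟨g, g.2.1⟩, (hst _ _).2 g.2.2⟩, rfl⟩
    exact Core.isIrr_comp f hf hirr
  · rintro ⟨W', hW'⟩ hne
    obtain ⟨L, hL0, hL1, hL2, hL3⟩ := hvan W' hW' fun e => hne (Subtype.ext e)
    refine ⟨L.subgroupOf N, fun l hl => (hst _ _).2 (hL1 hl), fun l hl => (hst _ _).2 (hL2 hl), fun {_} => ?_⟩
    let _ := Fintype.ofFinite L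
    rw [← hL3]
    exact Fintype.sum_equiv (Subgroup.subgroupOfEquivOfLe hL0).toEquiv _ _ fun l => rfl

/-- distinct irreducible characters of a common subgroup -/
theorem van2_of_ne [Finite K] [FiniteDimensional K V] [Finite V] [Fintype F.iso] {G' : Subgroup F.iso} {k : ℕ}
    {c c' : GL (Fin k) K → ℂ} (hcl : IsClassFunction _ c) (hcl' : IsClassFunction _ c') {W₀ W' : Submodule K V}
    {L : Subgroup F.iso} (h0 : L ≤ G')
    (h1 : L ≤ stabW F.iso.subtype W₀) (h2 : L ≤ stabW F.iso.subtype W') (b₀ : Basis (Fin k) K W₀)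
    (b₁ : Basis (Fin k) K W')
    (hi : IsIrrCharacter L (c ∘ ((glE b₀).toMonoidHom.comp ((resHom F.iso.subtype W₀).comp (Subgroup.inclusion h1)))))
    (hi' : IsIrrCharacter L (c' ∘ ((glE b₁).toMonoidHom.comp ((resHom F.iso.subtype W').comp (Subgroup.inclusion h2)))))
    (hne : c ∘ ((glE b₀).toMonoidHom.comp ((resHom F.iso.subtype W₀).comp (Subgroup.inclusion h1))) ≠
      c' ∘ ((glE b₁).toMonoidHom.comp ((resHom F.iso.subtype W').comp (Subgroup.inclusion h2)))) :
    Van2 F G' c c' W₀ W' := by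
  classical
  refine ⟨L, h0, h1, h2, fun {_} => ?_⟩
  have h3 := Core.classInner_irr_ne hi hi' hne
  rw [classInner_apply] at h3
  have h4 := (mul_eq_zero.1 h3).resolve_left (inv_ne_zero card_ne_zero')
  rw [← h4]
  refine Finset.sum_congr rfl fun l _ => ?_
  rw [flagTerm_of F.iso.subtype c (h1 l.2), cl_eq hcl b₀, flagTerm_of F.iso.subtype c' (h2 l.2), cl_eq hcl' b₁]
  rfl

/-- **`k = 1`** -/
theorem isIrr_sg_one [Finite K] [FiniteDimensional K V] [Finite V] [Fintype F.iso]
    (hdet : ∀ g : F.iso, ∃ a : Kˣ, LinearMap.det ((g : V ≃ₗ[K] V) : V →ₗ[K] V) = a * (F.σ a)⁻¹)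
    [Fintype (F.Om 1)] {c : GL (Fin 1) K → ℂ} (hc : IsIrrCharacter _ c) (hc1 : c 1 = 1) {W₀ : Submodule K V}
    (hW₀ : W₀ ∈ F.Om 1) {t : Kˣ} (ht : F.σ t = t)
    (ht1 : c (Matrix.GeneralLinearGroup.scalar (Fin 1) t) ≠ c 1)
    (ht2 : c (Matrix.GeneralLinearGroup.scalar (Fin 1) t) ≠ c (Matrix.GeneralLinearGroup.scalar (Fin 1) t⁻¹)) :
    IsIrrCharacter (sg F) (fun g : sg F => hcf F c g) := by
  classical
  have hcl := Core.isIrr_isClassFunction hc
  have hcc := Core.isIrr_isCharacter hc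
  let b₀ : Basis (Fin 1) K W₀ := finBasisOfFinrankEq K W₀ hW₀.2
  have hlin : ∀ (L : Subgroup F.iso) (f : L →* GL (Fin 1) K), IsIrrCharacter L (c ∘ f) := fun L f =>
    isIrr_of_one (Core.isCharacter_comp f hcc) (by rw [Function.comp_apply, map_one, hc1])
  -- the matrix of a scalar
  have hsc : ∀ (W : Submodule K V) (b : Basis (Fin 1) K W) (e : W ≃ₗ[K] W) (z : Kˣ),
      e (b 0) = (z : K) • b 0 → glE b e = Matrix.GeneralLinearGroup.scalar (Fin 1) z := by
    intro W b e z hz
    ext i j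
    have hi : i = 0 := Subsingleton.elim _ _
    have hj : j = 0 := Subsingleton.elim _ _
    subst hi
    subst hj
    rw [coe_glE, LinearMap.toMatrix_apply, LinearEquiv.coe_coe, hz, map_smul, Basis.repr_self,
      Matrix.GeneralLinearGroup.coe_scalar]
    simp
  refine isIrr_N F (sg F) hc hW₀ (trans_sg F hdet one_pos hW₀) ?_ fun W' hW' hne => ?_
  · have h1 := hlin _ ((glE b₀).toMonoidHom.comp ((resHom F.iso.subtype W₀).comp
      (Subgroup.inclusion (inf_le_right : sg F ⊓ stabW F.iso.subtype W₀ ≤ _))))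
    convert h1 using 1
    ext g
    rw [flagTerm_of F.iso.subtype c g.2.2, cl_eq hcl b₀]
    rfl
  · -- the element of the torus
    have key : ∃ (g : F.iso) (h : W₀.map (F.iso.subtype g : V →ₗ[K] V) = W₀)
        (h' : W'.map (F.iso.subtype g : V →ₗ[K] V) = W') (b : Basis (Fin 1) K W₀) (b' : Basis (Fin 1) K W'),
        g ∈ sg F ∧ c (glE b (res (F.iso.subtype g) W₀ h)) ≠ c (glE b' (res (F.iso.subtype g) W' h')) := by
      by_cases h0 : W₀ ⊓ F.perp W' = ⊥
      · obtain ⟨b, b', hb⟩ := CForm.exists_dual_basis hW₀.2 hW'.2 h0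
        have hbb : F.B (b 0) (b' 0) = 1 := by rw [hb, if_pos rfl]
        have hbb' : F.B (b' 0) (b 0) = F.ε := by rw [F.B_symm, hbb, map_one, mul_one]
        obtain ⟨g, hg, hg'⟩ := exists_dil F (hW₀.1.sing (b 0).2) (hW'.1.sing (b' 0).2) hbb t
        have e1 : (g : V ≃ₗ[K] V) (b 0) = (t : K) • (b 0 : V) := by
          rw [hg, hbb, (hW₀.1.sing (b 0).2).2]
          module
        have e2 : (g : V ≃ₗ[K] V) (b' 0) = ((t⁻¹ : Kˣ) : K) • (b' 0 : V) := by
          rw [hg, (hW'.1.sing (b' 0).2).2, hbb', ht, mul_assoc, inv_mul_cancel₀ F.ε_ne, Units.val_inv_eq_inv_val]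
          module
        have hm : W₀.map (F.iso.subtype g : V →ₗ[K] V) = W₀ := map_eq_of_le F.iso.subtype fun w hw => by
          change (g : V ≃ₗ[K] V) w ∈ W₀
          rw [hg, hW₀.1.2 w hw _ (b 0).2, mul_zero, zero_smul, add_zero]
          exact W₀.add_mem hw (W₀.smul_mem _ (b 0).2)
        have hm' : W'.map (F.iso.subtype g : V →ₗ[K] V) = W' := map_eq_of_le F.iso.subtype fun w hw => by
          change (g : V ≃ₗ[K] V) w ∈ W'
          rw [hg, hW'.1.2 w hw _ (b' 0).2, mul_zero, zero_smul, add_zero]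
          exact W'.add_mem hw (W'.smul_mem _ (b' 0).2)
        refine ⟨g, hm, hm', b, b', ?_, ?_⟩
        · rw [mem_sg, hg', ht, mul_inv_cancel₀ t.ne_zero]
        · rw [hsc W₀ b _ t (Subtype.ext e1), hsc W' b' _ t⁻¹ (Subtype.ext e2)]
          exact ht2
      · -- orthogonal points
        have h1 : W₀ ⊓ F.perp W' = W₀ := by
          apply Submodule.eq_of_le_of_finrank_le inf_le_left
          rw [hW₀.2]
          by_contra hlt
          push Not at hlt
          exact h0 (Submodule.finrank_eq_zero.1 (by omega))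
        have hperp : W₀ ≤ F.perp W' := inf_eq_left.1 h1
        let b' : Basis (Fin 1) K W' := finBasisOfFinrankEq K W' hW'.2
        obtain ⟨f, hf, hf1, hf2⟩ := F.exists_sing_dual hW₀.1 hperp (b₀.coord 0) (fun w hw => by
          by_contra hw0
          apply hne
          have hw1 : (w : V) ≠ 0 := by
            intro h2
            apply hw0
            rw [show w = 0 from Subtype.ext h2, map_zero]
          have e1 : W₀ = K ∙ (w : V) := by
            symm
            apply Submodule.eq_of_le_of_finrank_eq ((Submodule.span_singleton_le_iff_mem _ _).2 w.2)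
            rw [finrank_span_singleton hw1, hW₀.2]
          have e2 : W' = K ∙ (w : V) := by
            symm
            apply Submodule.eq_of_le_of_finrank_eq ((Submodule.span_singleton_le_iff_mem _ _).2 hw)
            rw [finrank_span_singleton hw1, hW'.2]
          rw [e1, e2]) (by
            intro h2
            have h3 := LinearMap.congr_fun h2 (b₀ 0)
            rw [Basis.coord_apply, Basis.repr_self, Finsupp.single_eq_same] at h3
            exact one_ne_zero h3)
        have hbf : F.B (b₀ 0) f = 1 := by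
          rw [← hf1, Basis.coord_apply, Basis.repr_self, Finsupp.single_eq_same]
        obtain ⟨g, hg, hg'⟩ := exists_dil F (hW₀.1.sing (b₀ 0).2) hf hbf t
        have e1 : (g : V ≃ₗ[K] V) (b₀ 0) = (t : K) • (b₀ 0 : V) := by
          rw [hg, hbf, (hW₀.1.sing (b₀ 0).2).2]
          module
        have e2 : ∀ w ∈ W', (g : V ≃ₗ[K] V) w = w := by
          intro w hw
          rw [hg, hf2 w hw, F.B_eq_zero (hperp (b₀ 0).2 w hw)]
          module
        have hm : W₀.map (F.iso.subtype g : V →ₗ[K] V) = W₀ := map_eq_of_le F.iso.subtype fun w hw => by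
          change (g : V ≃ₗ[K] V) w ∈ W₀
          rw [hg, hW₀.1.2 w hw _ (b₀ 0).2, mul_zero, zero_smul, add_zero]
          exact W₀.add_mem hw (W₀.smul_mem _ (b₀ 0).2)
        have hm' : W'.map (F.iso.subtype g : V →ₗ[K] V) = W' := map_eq_of_le F.iso.subtype fun w hw => by
          change (g : V ≃ₗ[K] V) w ∈ W'
          rw [e2 w hw]
          exact hw
        refine ⟨g, hm, hm', b₀, b', ?_, ?_⟩
        · rw [mem_sg, hg', ht, mul_inv_cancel₀ t.ne_zero]
        · rw [hsc W₀ b₀ _ t (Subtype.ext e1), hsc W' b' _ 1 (Subtype.ext (by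
            change (g : V ≃ₗ[K] V) (b' 0) = _
            rw [e2 _ (b' 0).2]
            simp)), map_one]
          exact ht1
    obtain ⟨g, hm, hm', b, b', hgs, hgne⟩ := key
    refine van2_of_ne F (L := sg F ⊓ (stabW F.iso.subtype W₀ ⊓ stabW F.iso.subtype W')) hcl hcl inf_le_left
      (inf_le_right.trans inf_le_left) (inf_le_right.trans inf_le_right) b b' (hlin _ _) (hlin _ _) fun h => hgne ?_
    exact congrFun h ⟨g, hgs, hm, hm'⟩

end Cfsg.Agent.H328.Gow
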