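import Cfsg.Agent.H328.Gow.NirrB

/-!
# Irreducibility on the special isometry group, characteristic two, `k = 2` (S4913, helper328)

`isIrr_sg_two`.
-/

set_option autoImplicit false
set_option linter.style.haveILetI false

open scoped ComplexConjugate
open Cfsg

namespace Cfsg.Agent.H328.Gow

open Cfsg.Agent.OddOrderCharacters.Clifford Cfsg.Agent.Characters MulAction Module Cfsg.Agent.H53.HC
  Cfsg.Agent.H477.HC

universe u v w

variable {K : Type u} [Field K] {V : Type v} [AddCommGroup V] [Module K V] (F : CForm K V)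

/-- every matrix of `SL_2(K)` is the matrix of an isometry of determinant one stabilising both subspaces -/
theorem exists_SL [CharP K 2] [FiniteDimensional K V] {W₀ W' : Submodule K V} (hW₀ : W₀ ∈ F.Om 2) (hW' : W' ∈ F.Om 2)
    {b : Basis (Fin 2) K W₀} {b' : Basis (Fin 2) K W'} (hb : ∀ i j, F.B (b i) (b' j) = if i = j then 1 else 0)
    (A : Matrix.SpecialLinearGroup (Fin 2) K) :
    ∃ l : (sg F ⊓ (stabW F.iso.subtype W₀ ⊓ stabW F.iso.subtype W') : Subgroup F.iso),
      ((glE b).toMonoidHom.comp ((resHom F.iso.subtype W₀).comp (Subgroup.inclusion (inf_le_right.trans inf_le_left :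
        sg F ⊓ (stabW F.iso.subtype W₀ ⊓ stabW F.iso.subtype W') ≤ stabW F.iso.subtype W₀)))) l =
        Matrix.SpecialLinearGroup.toGL A := by
  classical
  refine Matrix.SL2.transvection_induction (fun A => ∃ l :
    (sg F ⊓ (stabW F.iso.subtype W₀ ⊓ stabW F.iso.subtype W') : Subgroup F.iso),
      ((glE b).toMonoidHom.comp ((resHom F.iso.subtype W₀).comp (Subgroup.inclusion (inf_le_right.trans inf_le_left :
        sg F ⊓ (stabW F.iso.subtype W₀ ⊓ stabW F.iso.subtype W') ≤ stabW F.iso.subtype W₀)))) l =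
        Matrix.SpecialLinearGroup.toGL A) (fun i j hij a => ?_) (fun A A' hA hA' => ?_) A
  · have hγ := hW₀.1.sing (b i).2
    have hβ : F.Sing (F.σ a • (b' j : V)) := hW'.1.sing (W'.smul_mem _ (b' j).2)
    have hγβ : F.B (b i) (F.σ a • (b' j : V)) = 0 := by
      rw [F.B_smul_right, hb, if_neg hij, mul_zero]
    obtain ⟨g, hg⟩ := F.exists_root hγ hβ hγβ
    have hgs : g ∈ sg F := root_mem_sg F ⟨_, _, hγ, hβ, hγβ, hg⟩
    have hgW : ∀ w ∈ W₀, (g : V ≃ₗ[K] V) w = w + F.B w (F.σ a • (b' j : V)) • (b i : V) := by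
      intro w hw
      rw [hg, hW₀.1.2 w hw _ (b i).2]
      module
    have hm : W₀.map (F.iso.subtype g : V →ₗ[K] V) = W₀ := map_eq_of_le F.iso.subtype fun w hw => by
      change (g : V ≃ₗ[K] V) w ∈ W₀
      rw [hgW w hw]
      exact W₀.add_mem hw (W₀.smul_mem _ (b i).2)
    have hm' : W'.map (F.iso.subtype g : V →ₗ[K] V) = W' := map_eq_of_le F.iso.subtype fun w hw => by
      change (g : V ≃ₗ[K] V) w ∈ W'
      rw [hg, hW'.1.2 w hw _ (W'.smul_mem _ (b' j).2), zero_smul, add_zero]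
      exact W'.sub_mem hw (W'.smul_mem _ (W'.smul_mem _ (b' j).2))
    refine ⟨⟨g, hgs, hm, hm'⟩, ?_⟩
    change glE b (res (F.iso.subtype g) W₀ hm) = _
    ext m i'
    have e1 : res (F.iso.subtype g) W₀ hm (b i') = b i' + (if i' = j then a else 0) • b i := by
      apply Subtype.ext
      change (g : V ≃ₗ[K] V) (b i' : V) = _
      rw [hgW _ (b i').2, F.B_smul_right, hb, F.σσ, Submodule.coe_add, Submodule.coe_smul]
      by_cases h : i' = j
      · rw [if_pos h, if_pos h, mul_one]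
      · rw [if_neg h, if_neg h, mul_zero]
    rw [coe_glE, LinearMap.toMatrix_apply, LinearEquiv.coe_coe, e1, map_add, map_smul, Basis.repr_self,
      Basis.repr_self]
    change _ = ((1 : Matrix (Fin 2) (Fin 2) K) + Matrix.single i j a) m i'
    rw [Finsupp.add_apply, Finsupp.smul_apply, Matrix.add_apply, Matrix.one_apply, Matrix.single_apply,
      Finsupp.single_apply, Finsupp.single_apply, smul_eq_mul]
    by_cases h1 : i = m
    · by_cases h2 : j = i'
      · simp [h1, h2, eq_comm]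
      · simp [h1, h2, eq_comm]
    · by_cases h2 : j = i'
      · simp [h1, h2, eq_comm]
      · simp [h1, h2, eq_comm]
  · obtain ⟨l, hl⟩ := hA
    obtain ⟨l', hl'⟩ := hA'
    exact ⟨l * l', by rw [map_mul, hl, hl', map_mul]⟩

theorem iota_scalar (k : ℕ) (z : Kˣ) : ∃ y : Kˣ, F.iota k (Matrix.GeneralLinearGroup.scalar (Fin k) z) =
    Matrix.GeneralLinearGroup.scalar (Fin k) y := by
  refine ⟨Units.map (F.σ : K →* K) z⁻¹, ?_⟩
  ext i j
  change F.σ (((Matrix.GeneralLinearGroup.scalar (Fin k) z)⁻¹ : GL (Fin k) K).1.transpose i j) = _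
  rw [← map_inv, Matrix.transpose_apply, Matrix.GeneralLinearGroup.coe_scalar, Matrix.GeneralLinearGroup.coe_scalar,
    Matrix.scalar_apply, Matrix.scalar_apply, Matrix.diagonal_apply, Matrix.diagonal_apply]
  by_cases h : i = j
  · rw [if_pos h, if_pos h.symm]
    rfl
  · rw [if_neg h, if_neg (Ne.symm h), map_zero]

/-- **`k = 2`** -/
theorem isIrr_sg_two [Finite K] [CharP K 2] [FiniteDimensional K V] [Finite V] [Fintype F.iso]
    (hdet : ∀ g : F.iso, ∃ a : Kˣ, LinearMap.det ((g : V ≃ₗ[K] V) : V →ₗ[K] V) = a * (F.σ a)⁻¹)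
    [Fintype (F.Om 2)] {c : GL (Fin 2) K → ℂ} (hc : IsIrrCharacter _ c) (hcusp : IsCusp c) (hne : c ∘ F.iota 2 ≠ c)
    (hz : ∀ z : Kˣ, c (Matrix.GeneralLinearGroup.scalar (Fin 2) z) = c 1) {W₀ : Submodule K V}
    (hW₀ : W₀ ∈ F.Om 2) : IsIrrCharacter (sg F) (fun g : sg F => hcf F c g) := by
  classical
  have hcl := Core.isIrr_isClassFunction hc
  have hcι : IsIrrCharacter _ (c ∘ F.iota 2) := Core.isIrr_comp (F.iota 2) (F.iota_surjective 2) hc
  have hzι : ∀ z : Kˣ, (c ∘ F.iota 2) (Matrix.GeneralLinearGroup.scalar (Fin 2) z) = (c ∘ F.iota 2) 1 := by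
    intro z
    obtain ⟨y, hy⟩ := iota_scalar F 2 z
    rw [Function.comp_apply, Function.comp_apply, hy, hz, map_one]
  refine isIrr_N F (sg F) hc hW₀ (trans_sg F hdet two_pos hW₀) ?_ fun W' hW' hne' => ?_
  · obtain ⟨W', hW', h0⟩ := F.exists_opp hW₀
    obtain ⟨b, b', hb⟩ := CForm.exists_dual_basis hW₀.2 hW'.2 h0
    have h1 : IsIrrCharacter (sg F ⊓ stabW F.iso.subtype W₀ : Subgroup F.iso)
        (c ∘ ((glE b).toMonoidHom.comp ((resHom F.iso.subtype W₀).comp (Subgroup.inclusion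
          (inf_le_right : sg F ⊓ stabW F.iso.subtype W₀ ≤ stabW F.iso.subtype W₀))))) := by
      refine isIrr_comp_SL _ (fun A => ?_) hc hz
      obtain ⟨l, hl⟩ := exists_SL F hW₀ hW' hb A
      exact ⟨⟨l, l.2.1, l.2.2.1⟩, hl⟩
    convert h1 using 1
    ext g
    rw [flagTerm_of F.iso.subtype c g.2.2, cl_eq hcl b]
    rfl
  · by_cases h0 : W₀ ⊓ F.perp W' = ⊥
    · obtain ⟨b, b', hb⟩ := CForm.exists_dual_basis hW₀.2 hW'.2 h0
      have hf := exists_SL F hW₀ hW' hb
      have e1 : c ∘ ((glE b').toMonoidHom.comp ((resHom F.iso.subtype W').comp (Subgroup.inclusion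
          (inf_le_right.trans inf_le_right :
            sg F ⊓ (stabW F.iso.subtype W₀ ⊓ stabW F.iso.subtype W') ≤ stabW F.iso.subtype W')))) =
          (c ∘ F.iota 2) ∘ ((glE b).toMonoidHom.comp ((resHom F.iso.subtype W₀).comp (Subgroup.inclusion
          (inf_le_right.trans inf_le_left :
            sg F ⊓ (stabW F.iso.subtype W₀ ⊓ stabW F.iso.subtype W') ≤ stabW F.iso.subtype W₀)))) := by
        ext l
        exact congrArg c (CForm.glE_opp hb l.2.2.1 l.2.2.2)
      refine van2_of_ne F (L := sg F ⊓ (stabW F.iso.subtype W₀ ⊓ stabW F.iso.subtype W')) hcl hcl inf_le_left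
        (inf_le_right.trans inf_le_left) (inf_le_right.trans inf_le_right) b b' ?_ ?_ ?_
      · exact isIrr_comp_SL _ hf hc hz
      · rw [e1]
        exact isIrr_comp_SL _ hf hcι hzι
      · rw [e1]
        exact comp_SL_ne _ hf hc hcι hz hzι (Ne.symm hne)
    · by_cases h1 : W₀ ⊓ F.perp W' = W₀
      · have hperp : W₀ ≤ F.perp W' := inf_eq_left.1 h1
        by_cases h2 : W₀ ⊓ W' = ⊥
        · exact van2_case3 (fun g hg => root_mem_sg F hg) le_rfl hcl hcl hcusp hW₀ hW' hperp h2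
        · exact van2_case2 (fun g hg => root_mem_sg F hg) hcl hcl hcusp hW₀ hW' hperp h2 hne'
      · exact van2_case1 (fun g hg => root_mem_sg F hg) hcl hcl hcusp hW₀ hW' h0 h1

end Cfsg.Agent.H328.Gow
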