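import Cfsg.Agent.H477.HC.Trans

/-!
# The stabiliser of a totally singular subspace is transitive on its opposites (S4913, helper328)

`exists_opp_move` : for `W'`, `W''` opposite to `W₀` there is an isometry fixing `W₀` pointwise and moving `W'` to `W''`.
-/

set_option autoImplicit false

open scoped ComplexConjugate
open Cfsg

namespace Cfsg.Agent.H328.Gow

open Module Cfsg.Agent.H53.HC Cfsg.Agent.H477.HC

universe u v w

variable {K : Type u} [Field K] {V : Type v} [AddCommGroup V] [Module K V] (F : CForm K V)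

/-- the projection onto `W₀` along the orthogonal space of an opposite subspace -/
theorem exists_proj' [FiniteDimensional K V] {k : ℕ} {W₀ W' : Submodule K V} (hW₀ : W₀ ∈ F.Om k) (hW' : W' ∈ F.Om k)
    (h0 : W₀ ⊓ F.perp W' = ⊥) :
    ∃ P : V →ₗ[K] W₀, (∀ v, ∀ w' ∈ W', F.B v w' = F.B (P v) w') ∧ (∀ w : W₀, P w = w) ∧
      (∀ v, (∀ w ∈ W', F.B v w = 0) → P v = 0) := by
  have h0' := CForm.opp_symm hW₀.2 hW'.2 h0
  have h1 : ∀ w ∈ W₀, (∀ w' ∈ W', F.B w w' = 0) → w = 0 := fun w hw hw' => by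
    have : w ∈ W₀ ⊓ F.perp W' := ⟨hw, hw'⟩
    rw [h0] at this
    exact (Submodule.mem_bot K).1 this
  have h2 : ∀ w ∈ W', (∀ w' ∈ W₀, F.B w' w = 0) → w = 0 := fun w hw hw' => by
    have : w ∈ W' ⊓ F.perp W₀ := ⟨hw, fun w' hw'' => F.B_eq_zero (hw' w' hw'')⟩
    rw [h0'] at this
    exact (Submodule.mem_bot K).1 this
  obtain ⟨P, hP⟩ := F.exists_proj h1 h2
  refine ⟨P, hP, fun w => ?_, fun v hv => ?_⟩
  · have : ((P w - w : W₀) : V) = 0 := h1 _ (P w - w).2 fun w' hw' => by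
      rw [Submodule.coe_sub, F.B_sub_left, ← hP w w' hw', sub_self]
    exact sub_eq_zero.1 (Subtype.ext this)
  · have : ((P v : W₀) : V) = 0 := h1 _ (P v).2 fun w' hw' => by rw [← hP v w' hw', hv w' hw']
    exact Subtype.ext this

/-- **transitivity on the opposites** -/
theorem exists_opp_move [FiniteDimensional K V] {k : ℕ} {W₀ W' W'' : Submodule K V} (hW₀ : W₀ ∈ F.Om k)
    (hW' : W' ∈ F.Om k) (hW'' : W'' ∈ F.Om k) (h' : W₀ ⊓ F.perp W' = ⊥) (h'' : W₀ ⊓ F.perp W'' = ⊥) :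
    ∃ g : F.iso, (∀ w ∈ W₀, (g : V ≃ₗ[K] V) w = w) ∧ W'.map (F.iso.subtype g : V →ₗ[K] V) = W'' := by
  obtain ⟨P, hP, PW, P0⟩ := exists_proj' F hW₀ hW' h'
  obtain ⟨P', hP', PW', P0'⟩ := exists_proj' F hW' hW₀ (CForm.opp_symm hW₀.2 hW'.2 h')
  obtain ⟨P₂, hP₂, -, -⟩ := exists_proj' F hW₀ hW'' h''
  obtain ⟨P₃, hP₃, -, -⟩ := exists_proj' F hW'' hW₀ (CForm.opp_symm hW₀.2 hW''.2 h'')
  let R : V →ₗ[K] V := LinearMap.id - W₀.subtype ∘ₗ P - W'.subtype ∘ₗ P'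
  have hR : ∀ v, R v = v - P v - P' v := fun v => rfl
  have RW₀ : ∀ v, ∀ w ∈ W₀, F.B (R v) w = 0 := by
    intro v w hw
    rw [hR, F.B_sub_left, F.B_sub_left, hW₀.1.2 _ (P v).2 w hw, hP' v w hw]
    ring
  have RW' : ∀ v, ∀ w ∈ W', F.B (R v) w = 0 := by
    intro v w hw
    rw [hR, F.B_sub_left, F.B_sub_left, hW'.1.2 _ (P' v).2 w hw, hP v w hw]
    ring
  have hdec : ∀ v, v = P v + (R v + P' v) := fun v => by rw [hR]; abel
  -- the three components of the image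
  let X : V →ₗ[K] V := R - W₀.subtype ∘ₗ P₂ ∘ₗ R
  have hX : ∀ v, X v = R v - P₂ (R v) := fun v => rfl
  let Y : V →ₗ[K] W'' := P₃ ∘ₗ W'.subtype ∘ₗ P'
  have hY : ∀ v, Y v = P₃ (P' v) := fun v => rfl
  have XW₀ : ∀ v, ∀ w ∈ W₀, F.B (X v) w = 0 := by
    intro v w hw
    rw [hX, F.B_sub_left, RW₀ v w hw, hW₀.1.2 _ (P₂ (R v)).2 w hw, sub_zero]
  have XW'' : ∀ v, ∀ w ∈ W'', F.B (X v) w = 0 := by
    intro v w hw
    rw [hX, F.B_sub_left, hP₂ (R v) w hw, sub_self]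
  have hXX : ∀ v y, F.B (X v) (X y) = F.B (R v) (R y) := by
    intro v y
    rw [hX y, F.B_sub_right, XW₀ v _ (P₂ (R y)).2, sub_zero, hX, F.B_sub_left,
      F.B_eq_zero (RW₀ y _ (P₂ (R v)).2), sub_zero]
  have hXQ : ∀ v, F.Q (X v) = F.Q (R v) := by
    intro v
    have e : X v = R v + ((-1 : K) • (P₂ (R v) : V)) := by rw [hX, neg_one_smul, sub_eq_add_neg]
    rw [e, F.Q_add, F.B_smul_right, RW₀ v _ (P₂ (R v)).2, mul_zero, F.T_zero, F.Q_smul, hW₀.1.1 _ (P₂ (R v)).2]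
    ring
  have hPY : ∀ v, ∀ w ∈ W₀, F.B (Y v) w = F.B (P' v) w := fun v w hw => (hP₃ _ w hw).symm
  have hPY' : ∀ v, ∀ w ∈ W₀, F.B w (Y v) = F.B w (P' v) := fun v w hw => by
    rw [F.B_symm, hPY v w hw, ← F.B_symm]
  let f : V →ₗ[K] V := W₀.subtype ∘ₗ P + (X + W''.subtype ∘ₗ Y)
  have hf : ∀ v, f v = (P v : V) + (X v + (Y v : V)) := fun v => rfl
  obtain ⟨g, hg⟩ := F.exists_iso f (fun v y => by
    rw [hf, hf]
    conv_rhs => rw [hdec v, hdec y]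
    simp only [F.B_add_left, F.B_add_right]
    rw [hXX, hPY v _ (P y).2, hPY' y _ (P v).2, XW₀ v _ (P y).2, XW'' v _ (Y y).2,
      F.B_eq_zero (XW₀ y _ (P v).2), F.B_eq_zero (XW'' y _ (Y v).2), hW₀.1.2 _ (P v).2 _ (P y).2,
      hW''.1.2 _ (Y v).2 _ (Y y).2, RW₀ v _ (P y).2, RW' v _ (P' y).2, F.B_eq_zero (RW₀ y _ (P v).2),
      F.B_eq_zero (RW' y _ (P' v).2), hW'.1.2 _ (P' v).2 _ (P' y).2]) (fun v => by
    rw [hf]
    conv_rhs => rw [hdec v]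
    rw [F.Q_add, F.Q_add (X v), F.Q_add (P v : V) (R v + P' v), F.Q_add (R v), F.B_add_right, F.B_add_right,
      hXQ, hPY' v _ (P v).2, XW'' v _ (Y v).2, F.B_eq_zero (XW₀ v _ (P v).2), hW₀.1.1 _ (P v).2,
      hW''.1.1 _ (Y v).2, RW' v _ (P' v).2, F.B_eq_zero (RW₀ v _ (P v).2), hW'.1.1 _ (P' v).2])
  refine ⟨g, fun w hw => ?_, ?_⟩
  · have e1 : P' w = 0 := P0' _ fun w' hw' => hW₀.1.2 w hw w' hw'
    have e2 : (P w : V) = w := congrArg Subtype.val (PW ⟨w, hw⟩)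
    have e3 : R w = 0 := by rw [hR, e1, e2]; simp
    rw [hg, hf, hX, hY, e1, e2, e3]
    simp
  · apply Submodule.eq_of_le_of_finrank_eq
    · rintro _ ⟨w, hw, rfl⟩
      change (g : V ≃ₗ[K] V) w ∈ W''
      have e1 : P w = 0 := P0 _ fun w' hw' => hW'.1.2 w hw w' hw'
      have e2 : (P' w : V) = w := congrArg Subtype.val (PW' ⟨w, hw⟩)
      have e3 : R w = 0 := by rw [hR, e1, e2]; simp
      rw [hg, hf, hX, e1, e3]
      simp
    · rw [hW''.2, ← hW'.2]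
      exact LinearEquiv.finrank_map_eq (g : V ≃ₗ[K] V) W'

end Cfsg.Agent.H328.Gow
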