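import Cfsg.Agent.H477.HC.Trans
import Mathlib.GroupTheory.Perm.Cycle.Type

/-!
# Parity of the number of totally singular points and lines, characteristic two (S4913, helper328)

`odd_Om_one`, `odd_Om_two` : the number of totally singular subspaces of dimension `1`, `2` is odd.
-/

set_option autoImplicit false
set_option linter.style.haveILetI false

open Cfsg

namespace Cfsg.Agent.H328.Gow

open MulAction Module Cfsg.Agent.H53.HC Cfsg.Agent.H477.HC

universe u v

theorem even_of_invol {α : Type*} [Finite α] (f : α → α) (hf : ∀ a, f (f a) = a) (hne : ∀ a, f a ≠ a) :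
    Even (Nat.card α) := by
  classical
  let _ := Fintype.ofFinite α
  rw [Nat.card_eq_fintype_card, even_iff_two_dvd]
  by_contra h
  obtain ⟨a, ha⟩ := Equiv.Perm.exists_fixed_point_of_prime (p := 2) (n := 1) h (σ := ⟨f, f, hf, hf⟩)
    (by
      ext a
      rw [pow_one, pow_two, Equiv.Perm.mul_apply, Equiv.Perm.one_apply]
      exact hf a)
  exact hne a ha

/-- double counting modulo two -/
theorem odd_of_double {A B : Type*} [Finite A] [Finite B] (r : A → B → Prop)
    (h1 : ∀ a, Odd (Nat.card {b // r a b})) (h2 : ∀ b, Odd (Nat.card {a // r a b})) :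
    Odd (Nat.card A) ↔ Odd (Nat.card B) := by
  classical
  let _ := Fintype.ofFinite A
  let _ := Fintype.ofFinite B
  have e : Nat.card ((a : A) × {b // r a b}) = Nat.card ((b : B) × {a // r a b}) :=
    Nat.card_congr ⟨fun p => ⟨p.2.1, p.1, p.2.2⟩, fun p => ⟨p.2.1, p.1, p.2.2⟩, fun _ => rfl, fun _ => rfl⟩
  rw [Nat.card_sigma, Nat.card_sigma] at e
  have e1 : Odd (∑ a : A, Nat.card {b // r a b}) ↔ Odd (Nat.card A) := by
    rw [Finset.odd_sum_iff_odd_card_odd, Finset.filter_true_of_mem fun a _ => h1 a, Finset.card_univ,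
      Nat.card_eq_fintype_card]
  have e2 : Odd (∑ b : B, Nat.card {a // r a b}) ↔ Odd (Nat.card B) := by
    rw [Finset.odd_sum_iff_odd_card_odd, Finset.filter_true_of_mem fun a _ => h2 a, Finset.card_univ,
      Nat.card_eq_fintype_card]
  rw [← e1, ← e2, e]

variable {K : Type u} [Field K] {V : Type v} [AddCommGroup V] [Module K V] (F : CForm K V)

theorem odd_ne_zero [Finite V] (P : V → Prop) (h0 : P 0) (he : Even (Nat.card {v // P v})) :
    Odd (Nat.card {v // P v ∧ v ≠ 0}) := by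
  have h1 := Set.ncard_sdiff_singleton_add_one (s := {v | P v}) (a := 0) h0
  have h2 : Nat.card {v // P v} = ({v | P v} : Set V).ncard := Nat.card_coe_set_eq _
  have h3 : Nat.card {v // P v ∧ v ≠ 0} = ({v | P v} \ {0} : Set V).ncard := Nat.card_coe_set_eq _
  rw [h2, ← h1] at he
  rw [h3]
  exact Nat.not_even_iff_odd.1 (Nat.even_add_one.1 he)

theorem even_ne_zero' [Finite V] (P : V → Prop) (h0 : P 0) (he : Odd (Nat.card {v // P v ∧ v ≠ 0})) :
    Even (Nat.card {v // P v}) := by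
  have h1 := Set.ncard_sdiff_singleton_add_one (s := {v | P v}) (a := 0) h0
  have h2 : Nat.card {v // P v} = ({v | P v} : Set V).ncard := Nat.card_coe_set_eq _
  have h3 : Nat.card {v // P v ∧ v ≠ 0} = ({v | P v} \ {0} : Set V).ncard := Nat.card_coe_set_eq _
  rw [h2, ← h1]
  rw [h3] at he
  exact Nat.even_add_one.2 (Nat.not_even_iff_odd.2 he)

theorem add_self_V [CharP K 2] (v : V) : v + v = 0 := by
  rw [← two_smul K, show (2 : K) = 0 from by exact_mod_cast CharP.cast_eq_zero K 2, zero_smul]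

theorem even_card_sub [CharP K 2] [Finite V] (W : Submodule K V) {x : V} (hx : x ∈ W) (h0 : x ≠ 0) :
    Even (Nat.card {v // v ∈ W}) := by
  refine even_of_invol (fun w => ⟨w + x, W.add_mem w.2 hx⟩) (fun w => ?_) (fun w h => h0 ?_)
  · apply Subtype.ext
    change (w : V) + x + x = w
    rw [add_assoc, add_self_V (K := K), add_zero]
  · have := congrArg Subtype.val h
    change (w : V) + x = w at this
    exact add_eq_left.1 this

/-- the number of singular vectors of a subspace with a hyperbolic pair is even -/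
theorem even_sing [CharP K 2] [Finite K] [Finite V] (Y : Submodule K V) {e f : V} (he : e ∈ Y)
    (hQe : F.Q e = 0) (hef : F.B e f = 1)
    (hT : (∃ t ≠ 0, F.T t = 0) ∨ ((∀ t, F.T t = 0 → t = 0) ∧ ∃ x ∈ Y, x ≠ 0 ∧ F.B x e = 0 ∧ F.B x f = 0)) :
    Even (Nat.card {v : V // v ∈ Y ∧ F.Q v = 0}) := by
  classical
  let _ := Fintype.ofFinite K
  have he0 : e ≠ 0 := by
    rintro rfl
    rw [F.B_zero_left] at hef
    exact zero_ne_one hef
  have hee : F.B e e = 0 := F.alt e hQe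
  -- translations
  have key : ∀ s l : K, l ≠ 0 → F.T (F.σ l * s) = 0 →
      Even (Nat.card {v : {v : V // v ∈ Y ∧ F.Q v = 0} // F.B v e = s}) := by
    intro s l hl hls
    refine even_of_invol (fun v => ⟨⟨v.1.1 + l • e, Y.add_mem v.1.2.1 (Y.smul_mem l he), ?_⟩, ?_⟩) (fun v => ?_)
      (fun v h => ?_)
    · rw [F.Q_add, v.1.2.2, F.Q_smul, hQe, F.B_smul_right, v.2, hls]
      ring
    · change F.B (v.1.1 + l • e) e = s
      rw [F.B_add_left, F.B_smul_left, hee, v.2]
      ring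
    · apply Subtype.ext
      apply Subtype.ext
      change v.1.1 + l • e + l • e = v.1.1
      rw [add_assoc, add_self_V (K := K), add_zero]
    · have h1 := congrArg (fun x => x.1.1) h
      change v.1.1 + l • e = v.1.1 at h1
      exact (smul_ne_zero hl he0) (add_eq_left.1 h1)
  have h1 : Nat.card {v : V // v ∈ Y ∧ F.Q v = 0} =
      ∑ s : K, Nat.card {v : {v : V // v ∈ Y ∧ F.Q v = 0} // F.B v e = s} := by
    rw [← Nat.card_sigma]
    exact Nat.card_congr (Equiv.sigmaFiberEquiv (fun v : {v : V // v ∈ Y ∧ F.Q v = 0} => F.B v e)).symm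
  rw [h1]
  refine Finset.even_sum _ fun s _ => ?_
  by_cases hs : s = 0
  · refine key s 1 one_ne_zero ?_
    rw [hs, mul_zero, F.T_zero]
  rcases hT with ⟨t, ht0, ht⟩ | ⟨hinj, x, hxY, hx0, hxe, hxf⟩
  · refine key s (F.σ (t / s)) ?_ ?_
    · intro h
      have h2 := congrArg F.σ h
      rw [F.σσ, map_zero, div_eq_zero_iff] at h2
      exact h2.elim ht0 hs
    · rw [F.σσ, div_mul_cancel₀ _ hs, ht]
  · obtain ⟨t, ht⟩ := F.Q_range x
    have hxx : F.B x x = 0 := by
      apply hinj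
      have h2 := F.Q_add x x
      rw [add_self_V (K := K), F.Q_zero] at h2
      have h3 : F.Q x + F.Q x = 0 := by
        rw [← two_mul, show (2 : K) = 0 from by exact_mod_cast CharP.cast_eq_zero K 2, zero_mul]
      rw [h3, zero_add] at h2
      exact h2.symm
    obtain ⟨l, hl⟩ : ∃ l : V → K, ∀ v, l v = F.σ ((t - F.B v x) / s) := ⟨_, fun _ => rfl⟩
    have hQ : ∀ v, F.Q v = 0 → F.B v e = s → F.Q (v + (x + l v • e)) = 0 := by
      intro v hv hvs
      rw [F.Q_add, hv, F.Q_add, F.Q_smul, hQe, F.B_smul_right, hxe, F.B_add_right, F.B_smul_right, hvs, hl, F.σσ,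
        div_mul_cancel₀ _ hs, mul_zero, mul_zero, F.T_zero, add_sub_cancel, ht]
      ring
    refine even_of_invol (fun v => ⟨⟨v.1.1 + (x + l v.1.1 • e), Y.add_mem v.1.2.1 (Y.add_mem hxY (Y.smul_mem _ he)),
      hQ _ v.1.2.2 v.2⟩, ?_⟩) (fun v => ?_) (fun v h => ?_)
    · change F.B (v.1.1 + (x + l v.1.1 • e)) e = s
      rw [F.B_add_left, F.B_add_left, F.B_smul_left, hee, hxe, v.2]
      ring
    · apply Subtype.ext
      apply Subtype.ext
      change v.1.1 + (x + l v.1.1 • e) + (x + l (v.1.1 + (x + l v.1.1 • e)) • e) = v.1.1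
      have h2 : l (v.1.1 + (x + l v.1.1 • e)) = l v.1.1 := by
        rw [hl, hl v.1.1, F.B_add_left, F.B_add_left, F.B_smul_left, hxx, F.B_eq_zero hxe]
        ring_nf
      rw [h2, add_assoc, add_self_V (K := K), add_zero]
    · have h1 := congrArg (fun x => x.1.1) h
      change v.1.1 + (x + l v.1.1 • e) = v.1.1 at h1
      have h2 := add_eq_left.1 h1
      have h3 : F.B (x + l v.1.1 • e) f = 0 := by rw [h2, F.B_zero_left]
      rw [F.B_add_left, F.B_smul_left, hxf, hef, zero_add, mul_one] at h3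
      rw [h3, zero_smul, add_zero] at h2
      exact hx0 h2

/-- lines through a point -/
theorem odd_lines [CharP K 2] [Finite K] [Finite V] [FiniteDimensional K V] {v f e' f' : V} (hv : F.Q v = 0)
    (hvf : F.B v f = 1) (he' : F.Q e' = 0) (hef' : F.B e' f' = 1) (h1 : F.B e' v = 0)
    (h3 : F.B e' f = 0)
    (hT : (∃ t ≠ 0, F.T t = 0) ∨ ((∀ t, F.T t = 0 → t = 0) ∧
      ∃ x : V, x ≠ 0 ∧ F.B x v = 0 ∧ F.B x f = 0 ∧ F.B x e' = 0 ∧ F.B x f' = 0)) :
    Odd (Nat.card {W : F.Om 2 // v ∈ W.1}) := by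
  classical
  have hfS : Finite (Submodule K V) := Finite.of_injective (fun W : Submodule K V => (W : Set V)) SetLike.coe_injective
  have hv0 : v ≠ 0 := by
    rintro rfl
    rw [F.B_zero_left] at hvf
    exact zero_ne_one hvf
  have hvv : F.B v v = 0 := F.alt v hv
  let Y : Submodule K V :=
    { carrier := {x | F.B x v = 0 ∧ F.B x f = 0}
      zero_mem' := ⟨F.B_zero_left _, F.B_zero_left _⟩
      add_mem' := fun {a b} ha hb => ⟨by rw [F.B_add_left, ha.1, hb.1, add_zero],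
        by rw [F.B_add_left, ha.2, hb.2, add_zero]⟩
      smul_mem' := fun c a ha => ⟨by rw [F.B_smul_left, ha.1, mul_zero], by rw [F.B_smul_left, ha.2, mul_zero]⟩ }
  have hY : ∀ x, x ∈ Y ↔ F.B x v = 0 ∧ F.B x f = 0 := fun x => Iff.rfl
  have hev := even_sing F Y (e := e') (f := f') ((hY _).2 ⟨h1, h3⟩) he' hef' (by
    rcases hT with h | ⟨h, x, hx0, hx1, hx2, hx3, hx4⟩
    · exact Or.inl h
    · exact Or.inr ⟨h, x, (hY _).2 ⟨hx1, hx2⟩, hx0, hx3, hx4⟩)
  have hodd := odd_ne_zero (fun w => w ∈ Y ∧ F.Q w = 0) ⟨Y.zero_mem, F.Q_zero⟩ hev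
  refine (odd_of_double (A := {W : F.Om 2 // v ∈ W.1}) (B := {w // (w ∈ Y ∧ F.Q w = 0) ∧ w ≠ 0})
    (fun W w => w.1 ∈ W.1.1) (fun W => ?_) (fun w => ?_)).2 hodd
  · -- the points of `W ∩ Y`
    have e1 : Nat.card {b : {w // (w ∈ Y ∧ F.Q w = 0) ∧ w ≠ 0} // b.1 ∈ W.1.1} =
        Nat.card {w // w ∈ W.1.1 ⊓ Y ∧ w ≠ 0} := Nat.card_congr
      { toFun := fun b => ⟨b.1.1, ⟨b.2, b.1.2.1.1⟩, b.1.2.2⟩
        invFun := fun b => ⟨⟨b.1, ⟨b.2.1.2, W.1.2.1.1 _ b.2.1.1⟩, b.2.2⟩, b.2.1.1⟩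
        left_inv := fun _ => rfl
        right_inv := fun _ => rfl }
    rw [e1]
    -- a nonzero element
    have h4 : ∃ x ∈ W.1.1, x ∉ K ∙ v := by
      by_contra hcon
      push Not at hcon
      have h5 : W.1.1 ≤ K ∙ v := fun x hx => hcon x hx
      have h6 := Submodule.finrank_mono h5
      rw [W.1.2.2, finrank_span_singleton hv0] at h6
      omega
    obtain ⟨x, hx, hx'⟩ := h4
    have h5 : x - F.B x f • v ∈ W.1.1 ⊓ Y := by
      have h6 : x - F.B x f • v ∈ W.1.1 := Submodule.sub_mem _ hx (Submodule.smul_mem _ _ W.2)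
      refine ⟨h6, (hY _).2 ⟨W.1.2.1.2 _ h6 _ W.2, ?_⟩⟩
      rw [F.B_sub_left, F.B_smul_left, hvf, mul_one, sub_self]
    refine odd_ne_zero (fun w => w ∈ W.1.1 ⊓ Y) (Submodule.zero_mem _) (even_card_sub (W.1.1 ⊓ Y) h5 fun h => hx' ?_)
    rw [sub_eq_zero] at h
    rw [h]
    exact Submodule.smul_mem _ _ (Submodule.mem_span_singleton_self v)
  · obtain ⟨w, ⟨hwY, hwQ⟩, hw0⟩ := w
    obtain ⟨hw1, hw2⟩ := (hY w).1 hwY
    have hli : LinearIndependent K ![v, w] := by
      rw [LinearIndependent.pair_iff]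
      intro s t hst
      have h4 : F.B (s • v + t • w) f = 0 := by rw [hst, F.B_zero_left]
      rw [F.B_add_left, F.B_smul_left, F.B_smul_left, hvf, hw2, mul_one, mul_zero, add_zero] at h4
      rw [h4, zero_smul, zero_add] at hst
      exact ⟨h4, (smul_eq_zero.1 hst).resolve_right hw0⟩
    have hfr : finrank K (Submodule.span K {v, w}) = 2 := by
      have := finrank_span_eq_card hli
      rw [Matrix.range_cons, Matrix.range_cons, Matrix.range_empty, Set.union_empty, Fintype.card_fin] at this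
      exact this
    have hTS : F.TS (Submodule.span K {v, w}) := by
      have hB : ∀ x ∈ Submodule.span K {v, w}, ∃ a b : K, x = a • v + b • w := by
        intro x hx
        obtain ⟨a, b, h⟩ := Submodule.mem_span_pair.1 hx
        exact ⟨a, b, h.symm⟩
      have hww := F.alt w hwQ
      have hvw := F.B_eq_zero hw1
      refine ⟨fun x hx => ?_, fun x hx y hy => ?_⟩
      · obtain ⟨a, b, rfl⟩ := hB x hx
        rw [F.Q_add, F.Q_smul, F.Q_smul, hv, hwQ, F.B_smul_left, F.B_smul_right, hvw]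
        simp
      · obtain ⟨a, b, rfl⟩ := hB x hx
        obtain ⟨a', b', rfl⟩ := hB y hy
        simp only [F.B_add_left, F.B_add_right, F.B_smul_left, F.B_smul_right, hvw, hw1, hww, hvv]
        ring
    rw [Nat.card_eq_one_iff_unique.2]
    · exact odd_one
    refine ⟨⟨fun W W' => ?_⟩, ⟨⟨⟨⟨_, hTS, hfr⟩, Submodule.subset_span (Set.mem_insert _ _)⟩,
      Submodule.subset_span (Set.mem_insert_of_mem _ (Set.mem_singleton _))⟩⟩⟩
    have h4 : ∀ W : {a : {W : F.Om 2 // v ∈ W.1} // w ∈ a.1.1}, W.1.1.1 = Submodule.span K {v, w} := by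
      intro W
      symm
      apply Submodule.eq_of_le_of_finrank_eq
      · rw [Submodule.span_le]
        rintro x hx
        rcases hx with rfl | hx
        · exact W.1.2
        · rw [Set.mem_singleton_iff] at hx
          rw [hx]
          exact W.2
      · rw [hfr, W.1.1.2.2]
    apply Subtype.ext
    apply Subtype.ext
    apply Subtype.ext
    rw [h4, h4]

/-- **the number of singular points is odd** -/
theorem odd_Om_one [CharP K 2] [Finite K] [Finite V] [FiniteDimensional K V] {W₀ : Submodule K V} (hW₀ : W₀ ∈ F.Om 1)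
    (hT : (∃ t ≠ 0, F.T t = 0) ∨ ((∀ t, F.T t = 0 → t = 0) ∧ 3 ≤ finrank K V)) : Odd (Nat.card (F.Om 1)) := by
  classical
  have hfS : Finite (Submodule K V) := Finite.of_injective (fun W : Submodule K V => (W : Set V)) SetLike.coe_injective
  obtain ⟨W', hW', h0⟩ := F.exists_opp hW₀
  obtain ⟨b, b', hb⟩ := CForm.exists_dual_basis hW₀.2 hW'.2 h0
  have hev := even_sing F ⊤ (e := (b 0 : V)) (f := (b' 0 : V)) trivial (hW₀.1.1 _ (b 0).2) (by rw [hb, if_pos rfl]) (by
    rcases hT with h | ⟨h, h3⟩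
    · exact Or.inl h
    · refine Or.inr ⟨h, ?_⟩
      have hr := LinearMap.finrank_range_add_finrank_ker ((F.lf (b 0 : V)).prod (F.lf (b' 0 : V)))
      have hr' := Submodule.finrank_le (LinearMap.range ((F.lf (b 0 : V)).prod (F.lf (b' 0 : V))))
      rw [Module.finrank_prod, Module.finrank_self] at hr'
      have h4 : 0 < finrank K (LinearMap.ker ((F.lf (b 0 : V)).prod (F.lf (b' 0 : V)))) := by omega
      rw [Module.finrank_pos_iff_exists_ne_zero] at h4
      obtain ⟨⟨x, hx⟩, hx0⟩ := h4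
      rw [LinearMap.mem_ker] at hx
      have hx1 := congrArg Prod.fst hx
      have hx2 := congrArg Prod.snd hx
      exact ⟨x, trivial, fun h => hx0 (Subtype.ext h), hx1, hx2⟩)
  have hodd := odd_ne_zero (fun w => w ∈ (⊤ : Submodule K V) ∧ F.Q w = 0) ⟨trivial, F.Q_zero⟩ hev
  refine (odd_of_double (A := F.Om 1) (B := {w // (w ∈ (⊤ : Submodule K V) ∧ F.Q w = 0) ∧ w ≠ 0})
    (fun W w => w.1 ∈ W.1) (fun W => ?_) (fun w => ?_)).2 hodd
  · have e1 : Nat.card {b : {w // (w ∈ (⊤ : Submodule K V) ∧ F.Q w = 0) ∧ w ≠ 0} // b.1 ∈ W.1} =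
        Nat.card {w // w ∈ W.1 ∧ w ≠ 0} := Nat.card_congr
      { toFun := fun b => ⟨b.1.1, b.2, b.1.2.2⟩
        invFun := fun b => ⟨⟨b.1, ⟨trivial, W.2.1.1 _ b.2.1⟩, b.2.2⟩, b.2.1⟩
        left_inv := fun _ => rfl
        right_inv := fun _ => rfl }
    rw [e1]
    have h4 : 0 < finrank K W.1 := by rw [W.2.2]; omega
    rw [Module.finrank_pos_iff_exists_ne_zero] at h4
    obtain ⟨⟨x, hx⟩, hx0⟩ := h4
    exact odd_ne_zero (fun w => w ∈ W.1) (Submodule.zero_mem _) (even_card_sub W.1 hx fun h => hx0 (Subtype.ext h))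
  · obtain ⟨w, ⟨-, hwQ⟩, hw0⟩ := w
    have hfr : finrank K (K ∙ w) = 1 := finrank_span_singleton hw0
    have hTS : F.TS (K ∙ w) := by
      refine ⟨fun x hx => ?_, fun x hx y hy => ?_⟩
      · obtain ⟨a, rfl⟩ := Submodule.mem_span_singleton.1 hx
        rw [F.Q_smul, hwQ, mul_zero]
      · obtain ⟨a, rfl⟩ := Submodule.mem_span_singleton.1 hx
        obtain ⟨b, rfl⟩ := Submodule.mem_span_singleton.1 hy
        rw [F.B_smul_left, F.B_smul_right, F.alt w hwQ, mul_zero, mul_zero]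
    rw [Nat.card_eq_one_iff_unique.2]
    · exact odd_one
    refine ⟨⟨fun W W' => ?_⟩, ⟨⟨⟨_, hTS, hfr⟩, Submodule.mem_span_singleton_self w⟩⟩⟩
    have h4 : ∀ W : {a : F.Om 1 // w ∈ a.1}, W.1.1 = K ∙ w := by
      intro W
      symm
      apply Submodule.eq_of_le_of_finrank_eq
      · rw [Submodule.span_singleton_le_iff_mem]
        exact W.2
      · rw [hfr, W.1.2.2]
    apply Subtype.ext
    apply Subtype.ext
    rw [h4, h4]

/-- **the number of totally singular lines is odd** -/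
theorem odd_Om_two [CharP K 2] [Finite K] [Finite V] [FiniteDimensional K V] {W₀ : Submodule K V} (hW₀ : W₀ ∈ F.Om 2)
    (hT : (∃ t ≠ 0, F.T t = 0) ∨ ((∀ t, F.T t = 0 → t = 0) ∧ 5 ≤ finrank K V)) : Odd (Nat.card (F.Om 2)) := by
  classical
  have hfS : Finite (Submodule K V) := Finite.of_injective (fun W : Submodule K V => (W : Set V)) SetLike.coe_injective
  obtain ⟨W', hW', h0⟩ := F.exists_opp hW₀
  obtain ⟨b, b', hb⟩ := CForm.exists_dual_basis hW₀.2 hW'.2 h0
  have hbb' : ∀ i, F.B (b i) (b' i) = 1 := fun i => by rw [hb, if_pos rfl]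
  have h01 : F.B (b 0) (b' 1) = 0 := by rw [hb, if_neg (by decide)]
  have h10 : F.B (b 1) (b' 0) = 0 := by rw [hb, if_neg (by decide)]
  have hTT : (∃ t ≠ 0, F.T t = 0) ∨ ((∀ t, F.T t = 0 → t = 0) ∧
      ∃ x : V, x ≠ 0 ∧ F.B x (b 0) = 0 ∧ F.B x (b' 0) = 0 ∧ F.B x (b 1) = 0 ∧ F.B x (b' 1) = 0) := by
    rcases hT with h | ⟨h, h3⟩
    · exact Or.inl h
    · refine Or.inr ⟨h, ?_⟩
      obtain ⟨φ, hφ⟩ : ∃ φ : V →ₗ[K] (K × K) × (K × K), φ = ((F.lf (b 0 : V)).prod (F.lf (b' 0 : V))).prod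
        ((F.lf (b 1 : V)).prod (F.lf (b' 1 : V))) := ⟨_, rfl⟩
      have hr := LinearMap.finrank_range_add_finrank_ker φ
      have hr' := Submodule.finrank_le (LinearMap.range φ)
      rw [Module.finrank_prod, Module.finrank_prod, Module.finrank_self] at hr'
      have h4 : 0 < finrank K (LinearMap.ker φ) := by omega
      rw [Module.finrank_pos_iff_exists_ne_zero] at h4
      obtain ⟨⟨x, hx⟩, hx0⟩ := h4
      rw [LinearMap.mem_ker, hφ] at hx
      have hx1 := congrArg (fun z => z.1.1) hx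
      have hx2 := congrArg (fun z => z.1.2) hx
      have hx3 := congrArg (fun z => z.2.1) hx
      have hx4 := congrArg (fun z => z.2.2) hx
      exact ⟨x, fun h => hx0 (Subtype.ext h), hx1, hx2, hx3, hx4⟩
  have hlin := odd_lines F (v := (b 0 : V)) (f := (b' 0 : V)) (e' := (b 1 : V)) (f' := (b' 1 : V))
    (hW₀.1.1 _ (b 0).2) (hbb' 0) (hW₀.1.1 _ (b 1).2) (hbb' 1) (hW₀.1.2 _ (b 1).2 _ (b 0).2) h10 hTT
  have hb0 : (b 0 : V) ≠ 0 := fun h => b.ne_zero 0 (Subtype.ext h)
  have hTS1 : ∀ w : V, w ≠ 0 → F.Q w = 0 → (K ∙ w) ∈ F.Om 1 := by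
    intro w hw0 hwQ
    refine ⟨⟨fun x hx => ?_, fun x hx y hy => ?_⟩, finrank_span_singleton hw0⟩
    · obtain ⟨a, rfl⟩ := Submodule.mem_span_singleton.1 hx
      rw [F.Q_smul, hwQ, mul_zero]
    · obtain ⟨a, rfl⟩ := Submodule.mem_span_singleton.1 hx
      obtain ⟨b, rfl⟩ := Submodule.mem_span_singleton.1 hy
      rw [F.B_smul_left, F.B_smul_right, F.alt w hwQ, mul_zero, mul_zero]
  -- singular vectors
  have hodd : Odd (Nat.card {w : V // F.Q w = 0 ∧ w ≠ 0}) := by
    have hev := even_sing F ⊤ (e := (b 0 : V)) (f := (b' 0 : V)) trivial (hW₀.1.1 _ (b 0).2) (hbb' 0) (by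
      rcases hTT with h | ⟨h, x, hx0, hx1, hx2, -⟩
      · exact Or.inl h
      · exact Or.inr ⟨h, x, trivial, hx0, hx1, hx2⟩)
    have e1 : Nat.card {v : V // v ∈ (⊤ : Submodule K V) ∧ F.Q v = 0} = Nat.card {v : V // F.Q v = 0} :=
      Nat.card_congr (Equiv.subtypeEquivRight fun v => ⟨fun h => h.2, fun h => ⟨trivial, h⟩⟩)
    rw [e1] at hev
    exact odd_ne_zero _ F.Q_zero hev
  refine (odd_of_double (A := F.Om 2) (B := {w : V // F.Q w = 0 ∧ w ≠ 0})
    (fun W w => w.1 ∈ W.1) (fun W => ?_) (fun w => ?_)).2 hodd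
  · have e1 : Nat.card {b : {w // F.Q w = 0 ∧ w ≠ 0} // b.1 ∈ W.1} =
        Nat.card {w // w ∈ W.1 ∧ w ≠ 0} := Nat.card_congr
      { toFun := fun b => ⟨b.1.1, b.2, b.1.2.2⟩
        invFun := fun b => ⟨⟨b.1, W.2.1.1 _ b.2.1, b.2.2⟩, b.2.1⟩
        left_inv := fun _ => rfl
        right_inv := fun _ => rfl }
    rw [e1]
    have h4 : 0 < finrank K W.1 := by rw [W.2.2]; omega
    rw [Module.finrank_pos_iff_exists_ne_zero] at h4
    obtain ⟨⟨x, hx⟩, hx0⟩ := h4
    exact odd_ne_zero (fun w => w ∈ W.1) (Submodule.zero_mem _) (even_card_sub W.1 hx fun h => hx0 (Subtype.ext h))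
  · obtain ⟨w, hwQ, hw0⟩ := w
    obtain ⟨g, hg⟩ := F.trans_Om (hTS1 _ hb0 (hW₀.1.1 _ (b 0).2)) (hTS1 _ hw0 hwQ)
    have hmem : ∀ W : Submodule K V, (b 0 : V) ∈ W ↔ w ∈ W.map (F.iso.subtype g : V →ₗ[K] V) := by
      intro W
      rw [← Submodule.span_singleton_le_iff_mem (R := K), ← Submodule.span_singleton_le_iff_mem (R := K), ← hg]
      exact (Submodule.map_le_map_iff_of_injective (F.iso.subtype g).injective _ _).symm
    have e1 : Nat.card {W : F.Om 2 // (b 0 : V) ∈ W.1} = Nat.card {W : F.Om 2 // w ∈ W.1} := by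
      refine Nat.card_eq_of_bijective (fun W => ⟨⟨_, F.Om_map g W.1.1 W.1.2⟩, (hmem W.1.1).1 W.2⟩) ⟨fun W W' h => ?_,
        fun W => ?_⟩
      · have h4 := congrArg (fun x => x.1.1) h
        apply Subtype.ext
        apply Subtype.ext
        exact Submodule.map_injective_of_injective (F.iso.subtype g).injective h4
      · have h5 : (W.1.1.map (F.iso.subtype g⁻¹ : V →ₗ[K] V)).map (F.iso.subtype g : V →ₗ[K] V) = W.1.1 := by
          rw [← Submodule.map_comp]
          convert Submodule.map_id W.1.1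
          ext x
          change (g : V ≃ₗ[K] V) (((g⁻¹ : F.iso) : V ≃ₗ[K] V) x) = x
          exact (g : V ≃ₗ[K] V).apply_symm_apply x
        refine ⟨⟨⟨_, F.Om_map g⁻¹ W.1.1 W.1.2⟩, (hmem _).2 ?_⟩, ?_⟩
        · rw [h5]
          exact W.2
        · apply Subtype.ext
          apply Subtype.ext
          exact h5
    rw [← e1]
    exact hlin

end Cfsg.Agent.H328.Gow
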