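import Cfsg.Agent.H328.Gow.Inner
import Cfsg.Agent.H328.Gow.Sing
import Cfsg.Agent.H636.Gow.Par

/-!
# Rational-valued irreducible characters of odd degree of isometry groups, characteristic two (S4913, helper328)

`exists_rat` : for a cuspidal irreducible character `c` of `GL_k(K)` whose Galois conjugates are `c` and `c ∘ ι` the
function `hcf F c` has a rational-valued irreducible constituent of odd degree.
-/

set_option autoImplicit false
set_option linter.style.haveILetI false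

open scoped ComplexConjugate
open Cfsg

namespace Cfsg.Agent.H328.Gow

open Cfsg.Agent.OddOrderCharacters.Clifford Cfsg.Agent.Characters MulAction Module Cfsg.Agent.H53.HC
  Cfsg.Agent.H477.HC

universe u v w

section Basic

variable {K : Type u} [Field K] {n : ℕ} {V : Type v} [AddCommGroup V] [Module K V] {G : Type w} [Group G]

theorem cl_map (τ : ℂ ≃+* ℂ) (Ψ : GL (Fin n) K → ℂ) (f : V ≃ₗ[K] V) : τ (cl Ψ f) = cl (fun A => τ (Ψ A)) f := by
  classical
  unfold cl
  split_ifs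
  · rfl
  · exact map_zero τ

theorem flagTerm_map (τ : ℂ ≃+* ℂ) (ρ : G →* (V ≃ₗ[K] V)) (Ψ : GL (Fin n) K → ℂ) (g : G) (W : Submodule K V) :
    τ (flagTerm ρ Ψ g W) = flagTerm ρ (fun A => τ (Ψ A)) g W := by
  classical
  unfold flagTerm
  split_ifs
  · exact cl_map τ Ψ _
  · exact map_zero τ

/-- a character of degree zero vanishes -/
theorem isChar_zero_of {χ : G → ℂ} (hχ : IsCharacter G χ) (h : χ 1 = 0) : χ = 0 := by
  obtain ⟨d, ρ, rfl⟩ := hχ
  rw [Representation.char_one, finrank_fin_fun, Nat.cast_eq_zero] at h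
  subst h
  ext g
  have : ρ g = 0 := Subsingleton.elim _ _
  change LinearMap.trace ℂ _ (ρ g) = 0
  rw [this, map_zero]

/-- an irreducible constituent of full degree -/
theorem eq_of_degree [Fintype G] {Θ χ : G → ℂ} (hΘ : IsCharacter G Θ) (hχ : IsIrrCharacter G χ)
    (h : classInner Θ χ ≠ 0) (h1 : Θ 1 = χ 1) : Θ = χ := by
  have h2 := isCharacter_sub_irr hΘ hχ h
  exact sub_eq_zero.1 (isChar_zero_of h2 (by rw [Pi.sub_apply, h1, sub_self]))

end Basic

variable {K : Type u} [Field K] {V : Type v} [AddCommGroup V] [Module K V] (F : CForm K V)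

theorem hcf_map (τ : ℂ ≃+* ℂ) {k : ℕ} [Fintype (F.Om k)] (c : GL (Fin k) K → ℂ) (g : F.iso) :
    τ (hcf F c g) = hcf F (fun A => τ (c A)) g := by
  rw [hcf_apply, hcf_apply, map_sum]
  exact Finset.sum_congr rfl fun W _ => flagTerm_map τ _ _ _ _

theorem hcf_one {k : ℕ} [Fintype (F.Om k)] [FiniteDimensional K V] {c : GL (Fin k) K → ℂ}
    (hcl : IsClassFunction _ c) : hcf F c 1 = (Nat.card (F.Om k) : ℂ) * c 1 := by
  unfold hcf
  rw [F.hc_one hcl (fun _ _ => 1) (d := 1) (fun _ _ => rfl), mul_one]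

variable [Finite K] [FiniteDimensional K V] [Finite V]

omit [Finite K] [Finite V] [FiniteDimensional K V] in
/-- transitivity of a subgroup `N` -/
theorem isPretransitive_of (N : Subgroup F.iso) {k : ℕ} {W₀ : Submodule K V}
    (htr : ∀ W ∈ F.Om k, ∃ g ∈ N, W₀.map (F.iso.subtype g : V →ₗ[K] V) = W) :
    letI := subAct (F.iso.subtype.comp N.subtype) (F.Om k) (fun g => F.Om_map g)
    IsPretransitive N (F.Om k) := by
  letI := subAct (F.iso.subtype.comp N.subtype) (F.Om k) (fun g => F.Om_map g)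
  refine ⟨fun W W' => ?_⟩
  obtain ⟨g, hgN, hg⟩ := htr W.1 W.2
  obtain ⟨g', hgN', hg'⟩ := htr W'.1 W'.2
  refine ⟨⟨g', hgN'⟩ * ⟨g, hgN⟩⁻¹, ?_⟩
  have hW₀ : W₀ ∈ F.Om k := by
    have h1 := F.Om_map g⁻¹ W.1 W.2
    rw [← hg] at h1
    have h5 : (W₀.map (F.iso.subtype g : V →ₗ[K] V)).map (F.iso.subtype g⁻¹ : V →ₗ[K] V) = W₀ := by
      rw [← map_mul_apply, inv_mul_cancel, map_one]
      exact Submodule.map_id _
    rwa [h5] at h1
  have e1 : (⟨g, hgN⟩ : N) • (⟨W₀, hW₀⟩ : F.Om k) = W := Subtype.ext hg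
  have e2 : (⟨g', hgN'⟩ : N) • (⟨W₀, hW₀⟩ : F.Om k) = W' := Subtype.ext hg'
  rw [← e1, mul_smul, inv_smul_smul, e2]

omit [Finite K] [Finite V] [FiniteDimensional K V] in
/-- the induced function, as an orbit sum of a subgroup `N` -/
theorem hcf_eq_orbSum (N : Subgroup F.iso) {k : ℕ} [Fintype (F.Om k)] (c : GL (Fin k) K → ℂ) :
    (fun g : N => hcf F c g) = letI := subAct (F.iso.subtype.comp N.subtype) (F.Om k) (fun g => F.Om_map g)
      orbSum (fun (g : N) (W : F.Om k) => flagTerm F.iso.subtype c (g : F.iso) W.1) := by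
  classical
  letI := subAct (F.iso.subtype.comp N.subtype) (F.Om k) (fun g => F.Om_map g)
  ext g
  rw [hcf_apply]
  unfold orbSum
  refine Finset.sum_congr rfl fun W _ => ?_
  split_ifs with h
  · rfl
  · exact flagTerm_not F c fun h' => h (Subtype.ext h')

omit [Finite K] [Finite V] in
theorem isChar_hcf [Fintype F.iso] {k : ℕ} [Fintype (F.Om k)] {c : GL (Fin k) K → ℂ} (hc : IsIrrCharacter _ c)
    {W₀ : Submodule K V} (hW₀ : W₀ ∈ F.Om k) : IsCharacter F.iso (hcf F c) := by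
  classical
  have hcl := Core.isIrr_isClassFunction hc
  let b₀ : Basis (Fin k) K W₀ := finBasisOfFinrankEq K W₀ hW₀.2
  letI := subAct F.iso.subtype (F.Om k) F.Om_map
  have hpre : IsPretransitive F.iso (F.Om k) := by
    refine ⟨fun W W' => ?_⟩
    obtain ⟨g, hg⟩ := F.trans_Om W.2 W'.2
    exact ⟨g, Subtype.ext hg⟩
  have h1 : hcf F c = orbSum (fun (g : F.iso) (W : F.Om k) => flagTerm F.iso.subtype c g W.1) := by
    ext g
    rw [hcf_apply]
    unfold orbSum
    refine Finset.sum_congr rfl fun W _ => ?_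
    split_ifs with h
    · rfl
    · exact flagTerm_not F c fun h' => h (Subtype.ext h')
  rw [h1, orbSum_eq_indFun (fun (g : F.iso) (W : F.Om k) => flagTerm F.iso.subtype c g W.1)
    (fun x g W => flagTerm_conj F.iso.subtype hcl x g W.1) ⟨W₀, hW₀⟩]
  apply Cfsg.Agent.S0148.result
  have hst : ∀ g : stabilizer F.iso (⟨W₀, hW₀⟩ : F.Om k), (g : F.iso) ∈ stabW F.iso.subtype W₀ := fun g =>
    congrArg Subtype.val (mem_stabilizer_iff.1 g.2)
  let f : stabilizer F.iso (⟨W₀, hW₀⟩ : F.Om k) →* GL (Fin k) K :=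
    (glE b₀).toMonoidHom.comp ((resHom F.iso.subtype W₀).comp
      { toFun := fun g => ⟨g, hst g⟩
        map_one' := rfl
        map_mul' := fun _ _ => rfl })
  have e1 : stabFun (fun (g : F.iso) (W : F.Om k) => flagTerm F.iso.subtype c g W.1) (⟨W₀, hW₀⟩ : F.Om k) = c ∘ f := by
    ext g
    change flagTerm F.iso.subtype c (g : F.iso) W₀ = _
    rw [flagTerm_of F.iso.subtype c (hst g), cl_eq hcl b₀]
    rfl
  rw [e1]
  exact Core.isCharacter_comp f (Core.isIrr_isCharacter hc)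

omit [Finite K] in
/-- **characters trivial on the root elements are not constituents** -/
theorem inner_eq_zero_of_root [Fintype F.iso] {k : ℕ} (hk : 2 ≤ k) [Fintype (F.Om k)] {c : GL (Fin k) K → ℂ}
    (hc : IsIrrCharacter _ c) (hcusp : IsCusp c) {W₀ : Submodule K V} (hW₀ : W₀ ∈ F.Om k) {G' : Subgroup F.iso}
    (hG : ∀ g : F.iso, IsRoot F g → g ∈ G') {χ : F.iso → ℂ} (hχ : IsCharacter F.iso χ)
    (hχ1 : ∀ g ∈ G', χ g = χ 1) : classInner (hcf F c) χ = 0 := by
  classical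
  have hcl := Core.isIrr_isClassFunction hc
  let b₀ : Basis (Fin k) K W₀ := finBasisOfFinrankEq K W₀ hW₀.2
  -- the local sum
  obtain ⟨W₁, hW₁, hopp⟩ := F.exists_opp hW₀
  obtain ⟨x, hx, hx0⟩ : ∃ x ∈ W₀, x ≠ 0 := by
    by_contra h
    push Not at h
    have : W₀ = ⊥ := (Submodule.eq_bot_iff _).2 h
    have h2 := hW₀.2
    rw [this, finrank_bot] at h2
    omega
  have hvan : Van2 F G' c (fun _ : GL (Fin 0) K => (1 : ℂ)) W₀ ⊥ := by
    refine van2_of_root hcl (fun _ _ => rfl) hcusp hW₀.2 (finrank_bot K V) (K ∙ x)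
      ((Submodule.span_singleton_le_iff_mem _ _).2 hx) (fun h => hx0 (Submodule.span_singleton_eq_bot.1 h))
      (fun h => ?_) fun y hy f hf => ?_
    · have h2 := hW₀.2
      rw [← h, finrank_span_singleton hx0] at h2
      omega
    · have hyW : y ∈ W₀ := ((Submodule.span_singleton_le_iff_mem _ _).2 hx) hy
      obtain ⟨b, hb, hb'⟩ := F.exists_pair W₀ W₁ f (fun w hw => by
        have : (w : V) ∈ W₀ ⊓ F.perp W₁ := ⟨w.2, hw⟩
        rw [hopp] at this
        have e : w = 0 := Subtype.ext ((Submodule.mem_bot K).1 this)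
        rw [e, map_zero])
      have hyb : F.B y b = 0 := (hb' ⟨y, hyW⟩).symm.trans (hf ⟨y, hyW⟩ hy)
      obtain ⟨g, hg⟩ := F.exists_root (hW₀.1.sing hyW) (hW₁.1.sing hb) hyb
      refine ⟨g, hG g ⟨y, b, hW₀.1.sing hyW, hW₁.1.sing hb, hyb, hg⟩, fun w' hw' => ?_, fun w => ?_⟩
      · rw [(Submodule.mem_bot K).1 hw', map_zero]
      · rw [hg, hb', hW₀.1.2 w w.2 y hyW]
        module
  -- the inner product
  let P : Subgroup F.iso := stabW F.iso.subtype W₀
  let _ : Fintype P := Fintype.ofFinite P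
  let f : P →* GL (Fin k) K := (glE b₀).toMonoidHom.comp (resHom F.iso.subtype W₀)
  have hf : ∀ d : P, flagTerm F.iso.subtype c d W₀ = c (f d) := by
    intro d
    rw [flagTerm_of F.iso.subtype c d.2, cl_eq hcl b₀]
    rfl
  obtain ⟨L, hL0, hL1, hL2, hL3⟩ := hvan
  let _ : Fintype L := Fintype.ofFinite L
  have h1 : classInner (c ∘ f) (χ ∘ P.subtype) = 0 := by
    refine classInner_eq_zero_of_comp (Subgroup.inclusion hL1)
      (Core.isCharacter_comp f (Core.isIrr_isCharacter hc)) (Core.isCharacter_comp P.subtype hχ) ?_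
    rw [classInner_apply]
    rw [show ∑ l : L, ((c ∘ f) ∘ (Subgroup.inclusion hL1)) l * conj (((χ ∘ P.subtype) ∘ (Subgroup.inclusion hL1)) l) = 0
      from ?_, mul_zero]
    have h2 : ∀ l : L, ((c ∘ f) ∘ (Subgroup.inclusion hL1)) l * conj (((χ ∘ P.subtype) ∘ (Subgroup.inclusion hL1)) l) =
        (flagTerm F.iso.subtype c l W₀ * conj (flagTerm F.iso.subtype (fun _ : GL (Fin 0) K => (1 : ℂ)) l ⊥)) *
          conj (χ 1) := by
      intro l
      have e1 := hf (Subgroup.inclusion hL1 l)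
      have e2 : χ l = χ 1 := hχ1 l (hL0 l.2)
      have e3 : flagTerm F.iso.subtype (fun _ : GL (Fin 0) K => (1 : ℂ)) (l : F.iso) ⊥ = 1 := by
        rw [flagTerm_of _ _ (hL2 l.2), cl_eq (fun _ _ => rfl) (finBasisOfFinrankEq K (⊥ : Submodule K V) (finrank_bot K V))]
      rw [e3, map_one, mul_one, ← e2]
      change c (f (Subgroup.inclusion hL1 l)) * conj (χ l) = _
      rw [← e1]
      rfl
    rw [Finset.sum_congr rfl fun l _ => h2 l, ← Finset.sum_mul, hL3, zero_mul]
  have h2 : ∀ g : F.iso, hcf F c g * conj (χ g) = ∑ W : F.Om k, flagTerm F.iso.subtype c g W.1 * conj (χ g) := by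
    intro g
    rw [hcf_apply, Finset.sum_mul]
  rw [classInner_apply, Finset.sum_congr rfl fun g _ => h2 g, Finset.sum_comm]
  have h3 : ∀ W : F.Om k, ∑ g : F.iso, flagTerm F.iso.subtype c g W.1 * conj (χ g) = 0 := by
    intro W
    obtain ⟨x, hx⟩ := F.trans_Om hW₀ W.2
    have h4 : ∑ g : F.iso, flagTerm F.iso.subtype c g W.1 * conj (χ g) =
        ∑ g : F.iso, flagTerm F.iso.subtype c g W₀ * conj (χ g) := by
      refine (Fintype.sum_equiv (MulAut.conj x).toEquiv _ _ fun g => ?_).symm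
      change _ = flagTerm F.iso.subtype c (x * g * x⁻¹) _ * conj (χ (x * g * x⁻¹))
      rw [← hx, flagTerm_conj F.iso.subtype hcl, Core.isCharacter_isClassFunction hχ]
    rw [h4, sum_eq_sum_subgroup P]
    · rw [classInner_apply] at h1
      have h5 := (mul_eq_zero.1 h1).resolve_left (inv_ne_zero card_ne_zero')
      rw [← h5]
      refine Finset.sum_congr rfl fun d _ => ?_
      rw [hf]
      rfl
    · intro g hg
      rw [flagTerm_not F c hg, zero_mul]
  rw [Finset.sum_congr rfl fun W _ => h3 W, Finset.sum_const_zero, mul_zero]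

/-- `hcf (c ∘ ι) = hcf c` -/
theorem hcf_iota [Fintype F.iso] {k : ℕ} (hk : 0 < k) [Fintype (F.Om k)] {c : GL (Fin k) K → ℂ}
    (hc : IsIrrCharacter _ c) (hcusp : IsCusp c) {W₀ : Submodule K V} (hW₀ : W₀ ∈ F.Om k) :
    hcf F (c ∘ F.iota k) = hcf F c := by
  classical
  by_cases hι : c ∘ F.iota k = c
  · rw [hι]
  let _ : Fintype (GL (Fin k) K) := Fintype.ofFinite _
  have hc1 : c ≠ 1 := by
    rintro rfl
    exact hι rfl
  have hc' : IsIrrCharacter _ (c ∘ F.iota k) := Core.isIrr_comp (F.iota k) (F.iota_surjective k) hc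
  have hirr : IsIrrCharacter F.iso (hcf F c) := F.isIrr_hc_one hc hcusp hι hW₀
  have h1 := inner_hcf F hk hc hc1 hcusp hc' hW₀
  have h2 : (c ∘ F.iota k) ∘ F.iota k = c := by
    ext A
    rw [Function.comp_apply, Function.comp_apply, F.iota_iota]
  rw [h2, Core.classInner_irr_ne hc hc' (Ne.symm hι), Core.classInner_irr_self hc, zero_add] at h1
  refine eq_of_degree (isChar_hcf F hc' hW₀) hirr ?_ ?_
  · rw [← Core.classInner_conj_symm, h1, map_one]
    exact one_ne_zero
  · rw [hcf_one F (Core.isIrr_isClassFunction hc'), hcf_one F (Core.isIrr_isClassFunction hc), Function.comp_apply,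
      map_one]

/-- **rationality of `hcf c`** -/
theorem hcf_fixed [Fintype F.iso] {k : ℕ} (hk : 0 < k) [Fintype (F.Om k)] {c : GL (Fin k) K → ℂ}
    (hc : IsIrrCharacter _ c) (hcusp : IsCusp c) {W₀ : Submodule K V} (hW₀ : W₀ ∈ F.Om k)
    (hgal : ∀ τ : ℂ ≃+* ℂ, (fun A => τ (c A)) = c ∨ (fun A => τ (c A)) = c ∘ F.iota k) (τ : ℂ ≃+* ℂ) (g : F.iso) :
    τ (hcf F c g) = hcf F c g := by
  rw [hcf_map]
  rcases hgal τ with h | h
  · rw [h]
  · rw [h, hcf_iota F hk hc hcusp hW₀]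

theorem hcf_rat [Fintype F.iso] {k : ℕ} (hk : 0 < k) [Fintype (F.Om k)] {c : GL (Fin k) K → ℂ}
    (hc : IsIrrCharacter _ c) (hcusp : IsCusp c) {W₀ : Submodule K V} (hW₀ : W₀ ∈ F.Om k)
    (hgal : ∀ τ : ℂ ≃+* ℂ, (fun A => τ (c A)) = c ∨ (fun A => τ (c A)) = c ∘ F.iota k) (g : F.iso) :
    ∃ q : ℚ, hcf F c g = q := by
  apply GaloisBasic.exists_rat_of_forall_ringEquiv
  · exact (GaloisBasic.isIntegral_apply (isChar_hcf F hc hW₀) g).tower_top
  · exact fun τ => hcf_fixed F hk hc hcusp hW₀ hgal τ g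

open Cfsg.Agent.H636.Gow in
/-- **existence** -/
theorem exists_rat [Fintype F.iso] {k : ℕ} (hk : 0 < k) [Fintype (F.Om k)] {c : GL (Fin k) K → ℂ}
    (hc : IsIrrCharacter _ c) (hcusp : IsCusp c) {W₀ : Submodule K V} (hW₀ : W₀ ∈ F.Om k)
    (hgal : ∀ τ : ℂ ≃+* ℂ, (fun A => τ (c A)) = c ∨ (fun A => τ (c A)) = c ∘ F.iota k)
    (hk2 : c ∘ F.iota k ≠ c ∨ 2 ≤ k) (hOm : Odd (Nat.card (F.Om k))) {d : ℕ} (hd : Odd d) (hcd : c 1 = d) :
    ∃ χ : F.iso → ℂ, IsIrrCharacter F.iso χ ∧ (∀ g, ∃ q : ℚ, χ g = q) ∧ (∃ e : ℕ, Odd e ∧ χ 1 = e) ∧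
      classInner (hcf F c) χ ≠ 0 ∧ (c ∘ F.iota k ≠ c → χ = hcf F c) := by
  classical
  let _ : Fintype (GL (Fin k) K) := Fintype.ofFinite _
  by_cases hι : c ∘ F.iota k = c
  · have hk2' : 2 ≤ k := hk2.resolve_left fun h => h hι
    have hc1 : c ≠ 1 := by
      rintro rfl
      have h1 := inner_eq_zero_of_root F hk2' hc hcusp hW₀ (G' := ⊤) (fun _ _ => trivial)
        (χ := 1) Core.isCharacter_one (fun _ _ => rfl)
      have h2 := isChar_hcf F hc hW₀
      -- the trivial character is not cuspidal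
      have h3 : (hcf F (1 : GL (Fin k) K → ℂ)) = fun g => (Nat.card {W : F.Om k //
          W.1.map (F.iso.subtype g : V →ₗ[K] V) = W.1} : ℂ) := by
        ext g
        rw [hcf_apply]
        have h4 : ∀ W : F.Om k, flagTerm F.iso.subtype (1 : GL (Fin k) K → ℂ) g W.1 =
            if W.1.map (F.iso.subtype g : V →ₗ[K] V) = W.1 then 1 else 0 := by
          intro W
          split_ifs with h
          · rw [flagTerm_of _ _ h, cl_eq (fun _ _ => rfl) (finBasisOfFinrankEq K W.1 W.2.2)]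
            rfl
          · exact flagTerm_not F _ h
        rw [Finset.sum_congr rfl fun W _ => h4 W, Finset.sum_boole, Nat.card_eq_fintype_card, Fintype.card_subtype]
      rw [h3, Core.classInner_def] at h1
      have h5 := (mul_eq_zero.1 h1).resolve_left (inv_ne_zero card_ne_zero')
      have h6 : ((∑ g : F.iso, Nat.card {W : F.Om k // W.1.map (F.iso.subtype g : V →ₗ[K] V) = W.1} : ℕ) : ℂ) = 0 := by
        rw [← h5, Nat.cast_sum]
        refine Finset.sum_congr rfl fun g _ => ?_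
        rw [Pi.one_apply, map_one, mul_one]
      rw [Nat.cast_eq_zero, Finset.sum_eq_zero_iff] at h6
      have h7 := h6 1 (Finset.mem_univ _)
      have h8 : Nonempty {W : F.Om k // W.1.map (F.iso.subtype 1 : V →ₗ[K] V) = W.1} :=
        ⟨⟨⟨W₀, hW₀⟩, Submodule.map_id _⟩⟩
      exact absurd h7 Nat.card_pos.ne'
    have hn : classInner (hcf F c) (hcf F c) = (2 : ℕ) := by
      rw [inner_hcf F hk hc hc1 hcusp hc hW₀, hι, Core.classInner_irr_self hc]
      norm_num
    have hgen : IsGeneralizedCharacter F.iso (hcf F c) :=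
      ⟨hcf F c, 0, isChar_hcf F hc hW₀, Core.isCharacter_zero, by rw [sub_zero]⟩
    have h1 : classInner (hcf F c) 1 = 0 := inner_eq_zero_of_root F hk2' hc hcusp hW₀ (G' := ⊤) (fun _ _ => trivial)
        Core.isCharacter_one (fun _ _ => rfl)
    obtain ⟨S, hS, hS1, hS2, hS3⟩ := exists_odd_supp hgen (hcf_rat F hk hc hcusp hW₀ hgal) h1
      ⟨((Nat.card (F.Om k) * d : ℕ) : ℤ), by exact_mod_cast hOm.mul hd, by
        rw [hcf_one F (Core.isIrr_isClassFunction hc), hcd]
        push_cast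
        ring⟩
    have h3 : S.card = 1 := by
      have h2 := (hS3 2 hn).1
      obtain ⟨k, hk⟩ := hS
      omega
    obtain ⟨χ, rfl⟩ := Finset.card_eq_one.1 h3
    obtain ⟨h4, h5, t, ht, ht'⟩ := hS1 χ (Finset.mem_singleton_self χ)
    refine ⟨χ, χ.2, fun g => ?_, h5, ?_, fun h => absurd hι h⟩
    · apply GaloisBasic.exists_rat_of_forall_ringEquiv
      · exact (GaloisBasic.isIntegral_apply (Core.isIrr_isCharacter χ.2) g).tower_top
      · intro σ
        exact congrFun (congrArg Subtype.val (Finset.mem_singleton.1 (hS2 σ χ (Finset.mem_singleton_self χ)))) g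
    · rw [ht']
      intro h0
      have h6 : t = 0 := by exact_mod_cast h0
      rw [h6] at ht
      exact absurd ht (by decide)
  · have hirr : IsIrrCharacter F.iso (hcf F c) := F.isIrr_hc_one hc hcusp hι hW₀
    refine ⟨hcf F c, hirr, hcf_rat F hk hc hcusp hW₀ hgal, ⟨Nat.card (F.Om k) * d, hOm.mul hd, ?_⟩, ?_, fun _ => rfl⟩
    · rw [hcf_one F (Core.isIrr_isClassFunction hc), hcd]
      push_cast
      ring
    · rw [Core.classInner_irr_self hirr]
      exact one_ne_zero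

end Cfsg.Agent.H328.Gow
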