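import Cfsg.Agent.H328.Gow.Opp

/-!
# Orthogonality at a pair of totally singular subspaces, two class functions (S4913, helper328)

`Van2 F G' c c' W₀ W'` : on some subgroup of `G'` fixing `W₀` and `W'` the functions `c (g | W₀)` and `c' (g | W')` are
orthogonal. The cases of H477/HC/Main, Trans for two functions and a subgroup `G'` containing the root elements.
-/

set_option autoImplicit false
set_option linter.style.haveILetI false

open scoped ComplexConjugate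
open Cfsg

namespace Cfsg.Agent.H328.Gow

open Cfsg.Agent.OddOrderCharacters.Clifford Cfsg.Agent.Characters MulAction Module Cfsg.Agent.H53.HC
  Cfsg.Agent.H477.HC

universe u v w

variable {K : Type u} [Field K] {V : Type v} [AddCommGroup V] [Module K V] (F : CForm K V)

/-- root elements -/
def IsRoot (g : F.iso) : Prop := ∃ c b : V, F.Sing c ∧ F.Sing b ∧ F.B c b = 0 ∧
  ∀ v, (g : V ≃ₗ[K] V) v = v + F.B v b • c - (F.ε⁻¹ * F.B v c) • b

/-- the vanishing condition at a pair of subspaces -/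
def Van2 (G' : Subgroup F.iso) {k k' : ℕ} (c : GL (Fin k) K → ℂ) (c' : GL (Fin k') K → ℂ) (W₀ W' : Submodule K V) :
    Prop :=
  ∃ L : Subgroup F.iso, L ≤ G' ∧ L ≤ stabW F.iso.subtype W₀ ∧ L ≤ stabW F.iso.subtype W' ∧
    ∀ [Fintype L], ∑ l : L, flagTerm F.iso.subtype c l W₀ * conj (flagTerm F.iso.subtype c' l W') = 0

variable {F}

theorem van2_of_root {G' : Subgroup F.iso} [FiniteDimensional K V] [Finite V] {k k' : ℕ} {c : GL (Fin k) K → ℂ}
    {c' : GL (Fin k') K → ℂ} (hcf : IsClassFunction _ c) (hcf' : IsClassFunction _ c')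
    (hcusp : IsCusp c) {W₀ W' : Submodule K V} (hW₀ : finrank K W₀ = k)
    (hW' : finrank K W' = k') (D : Submodule K V) (hD : D ≤ W₀) (hD0 : D ≠ ⊥) (hD1 : D ≠ W₀)
    (hgen : ∀ c ∈ D, ∀ f : W₀ →ₗ[K] K, (∀ w : W₀, (w : V) ∈ D → f w = 0) →
      ∃ g ∈ G', (∀ w' ∈ W', (g : V ≃ₗ[K] V) w' = w') ∧ ∀ w : W₀, (g : V ≃ₗ[K] V) w = w + f w • c) :
    Van2 F G' c c' W₀ W' := by
  classical
  have b₀ : Basis (Fin k) K W₀ := finBasisOfFinrankEq K W₀ hW₀
  have b₁ : Basis (Fin k') K W' := finBasisOfFinrankEq K W' hW'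
  let D₀ : Submodule K W₀ := D.comap W₀.subtype
  have hD₀0 : D₀ ≠ ⊥ := by
    intro h
    apply hD0
    rw [Submodule.eq_bot_iff] at h ⊢
    intro x hx
    have := h ⟨x, hD hx⟩ hx
    exact congrArg Subtype.val this
  have hD₀1 : D₀ ≠ ⊤ := by
    intro h
    apply hD1
    apply le_antisymm hD
    intro x hx
    have : (⟨x, hx⟩ : W₀) ∈ D₀ := by rw [h]; trivial
    exact this
  let L : Subgroup F.iso :=
    { carrier := {g | g ∈ G' ∧ (∀ w' ∈ W', (g : V ≃ₗ[K] V) w' = w') ∧ (∀ w ∈ W₀, (g : V ≃ₗ[K] V) w - w ∈ D) ∧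
        ∀ d ∈ D, (g : V ≃ₗ[K] V) d = d}
      one_mem' := ⟨G'.one_mem, fun _ _ => rfl, fun w _ => by
        change w - w ∈ D
        rw [sub_self]; exact D.zero_mem, fun _ _ => rfl⟩
      mul_mem' := by
        rintro x y ⟨hx0, hx1, hx2, hx3⟩ ⟨hy0, hy1, hy2, hy3⟩
        refine ⟨G'.mul_mem hx0 hy0, fun w' hw' => ?_, fun w hw => ?_, fun d hd => ?_⟩
        · rw [Subgroup.coe_mul, LinearEquiv.mul_apply, hy1 w' hw', hx1 w' hw']
        · have h1 : (y : V ≃ₗ[K] V) w ∈ W₀ := by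
            have := W₀.add_mem (hD (hy2 w hw)) hw
            rwa [sub_add_cancel] at this
          have : ((x * y : F.iso) : V ≃ₗ[K] V) w - w =
              ((x : V ≃ₗ[K] V) ((y : V ≃ₗ[K] V) w) - (y : V ≃ₗ[K] V) w) + ((y : V ≃ₗ[K] V) w - w) := by
            rw [Subgroup.coe_mul, LinearEquiv.mul_apply]; abel
          rw [this]
          exact D.add_mem (hx2 _ h1) (hy2 w hw)
        · rw [Subgroup.coe_mul, LinearEquiv.mul_apply, hy3 d hd, hx3 d hd]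
      inv_mem' := by
        rintro x ⟨hx0, hx1, hx2, hx3⟩
        have key : ∀ v, (x : V ≃ₗ[K] V) v = v → ((x⁻¹ : F.iso) : V ≃ₗ[K] V) v = v := by
          intro v hv
          have h1 : ((x⁻¹ : F.iso) : V ≃ₗ[K] V) ((x : V ≃ₗ[K] V) v) = v := (x : V ≃ₗ[K] V).symm_apply_apply v
          rwa [hv] at h1
        refine ⟨G'.inv_mem hx0, fun w' hw' => key _ (hx1 w' hw'), fun w hw => ?_, fun d hd => key _ (hx3 d hd)⟩
        have h1 := hx2 w hw
        have h2 := key _ (hx3 _ h1)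
        rw [map_sub] at h2
        have h3 : ((x⁻¹ : F.iso) : V ≃ₗ[K] V) ((x : V ≃ₗ[K] V) w) = w := (x : V ≃ₗ[K] V).symm_apply_apply w
        rw [h3] at h2
        have h4 : ((x⁻¹ : F.iso) : V ≃ₗ[K] V) w - w = -((x : V ≃ₗ[K] V) w - w) := by rw [← h2]; abel
        rw [h4]
        exact D.neg_mem h1 }
  have hL0 : ∀ l ∈ L, W₀.map (F.iso.subtype l : V →ₗ[K] V) = W₀ := fun l hl => map_eq_of_le F.iso.subtype fun w hw => by
    have := W₀.add_mem (hD (hl.2.2.1 w hw)) hw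
    rwa [sub_add_cancel] at this
  have hL1 : ∀ l ∈ L, W'.map (F.iso.subtype l : V →ₗ[K] V) = W' := fun l hl => map_eq_of_le F.iso.subtype fun w hw => by
    have := hl.2.1 w hw
    change (l : V ≃ₗ[K] V) w ∈ W'
    rw [this]; exact hw
  refine ⟨L, fun l hl => hl.1, fun l hl => hL0 l hl, fun l hl => hL1 l hl, fun {_} => ?_⟩
  have hfinW : Finite (W₀ ≃ₗ[K] W₀) :=
    Finite.of_injective (fun e : W₀ ≃ₗ[K] W₀ => (e : W₀ → W₀)) DFunLike.coe_injective
  letI : Fintype (radU D₀) := Fintype.ofFinite _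
  let f : L →* radU D₀ :=
    { toFun := fun l => ⟨res (F.iso.subtype l) W₀ (hL0 l l.2), fun w => l.2.2.2.1 w w.2, fun d hd => by
          apply Subtype.ext
          exact l.2.2.2.2 d hd⟩
      map_one' := by
        apply Subtype.ext
        ext w
        rfl
      map_mul' := fun x y => by
        apply Subtype.ext
        ext w
        rfl }
  have hf : Function.Surjective f := by
    have h1 := mem_of_transv D₀ (f.range.map (radU D₀).subtype) (by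
      intro c hc f' hf'
      obtain ⟨g, hgS, hg1, hg2⟩ := hgen c hc f' (fun w hw => hf' w hw)
      have hgL : g ∈ L := by
        refine ⟨hgS, hg1, fun w hw => ?_, fun d hd => ?_⟩
        · rw [hg2 ⟨w, hw⟩, add_sub_cancel_left]
          exact D.smul_mem _ hc
        · rw [hg2 ⟨d, hD hd⟩, hf' _ hd, zero_smul, add_zero]
      refine ⟨_, ⟨f ⟨g, hgL⟩, ⟨⟨g, hgL⟩, rfl⟩, rfl⟩, fun w => ?_⟩
      apply Subtype.ext
      exact hg2 w)
    rintro ⟨u, hu⟩
    obtain ⟨_, ⟨l, rfl⟩, h2⟩ := h1 hu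
    exact ⟨l, Subtype.ext h2⟩
  have e1 : ∀ l : L, flagTerm F.iso.subtype c l W₀ * conj (flagTerm F.iso.subtype c' l W') =
      (fun u : radU D₀ => cl c (u : W₀ ≃ₗ[K] W₀) * conj (c' 1)) (f l) := by
    intro l
    rw [flagTerm_of F.iso.subtype c (hL0 l l.2), flagTerm_of F.iso.subtype c' (hL1 l l.2)]
    have e2 : res (F.iso.subtype (l : F.iso)) W' (hL1 l l.2) = 1 := by
      ext w
      exact l.2.2.1 w w.2
    rw [e2, cl_one hcf' b₁]
    rfl
  rw [Finset.sum_congr rfl fun l _ => e1 l,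
    sum_comp_hom f hf (fun u : radU D₀ => cl c (u : W₀ ≃ₗ[K] W₀) * conj (c' 1)), ← Finset.sum_mul,
    hcusp.sum_eq hcf b₀ D₀ hD₀0 hD₀1, zero_mul, mul_zero]

/-- case `0 < W₀ ∩ W'ᗮ < W₀` -/
theorem van2_case1 {G' : Subgroup F.iso} (hG : ∀ g : F.iso, IsRoot F g → g ∈ G') [FiniteDimensional K V] [Finite V]
    {k : ℕ} {c c' : GL (Fin k) K → ℂ} (hcf : IsClassFunction _ c) (hcf' : IsClassFunction _ c')
    (hcusp : IsCusp c) {W₀ W' : Submodule K V} (hW₀ : W₀ ∈ F.Om k) (hW' : W' ∈ F.Om k) (h0 : W₀ ⊓ F.perp W' ≠ ⊥)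
    (h1 : W₀ ⊓ F.perp W' ≠ W₀) : Van2 F G' c c' W₀ W' := by
  refine van2_of_root hcf hcf' hcusp hW₀.2 hW'.2 (W₀ ⊓ F.perp W') inf_le_left h0 h1 fun x hx f hf => ?_
  obtain ⟨b, hb, hb'⟩ := F.exists_pair W₀ W' f (fun w hw => hf w ⟨w.2, fun w' hw' => hw w' hw'⟩)
  obtain ⟨g, hg⟩ := F.exists_root (hW₀.1.sing hx.1) (hW'.1.sing hb) (hx.2 b hb)
  refine ⟨g, hG g ⟨x, b, hW₀.1.sing hx.1, hW'.1.sing hb, hx.2 b hb, hg⟩, fun w' hw' => ?_, fun w => ?_⟩
  · rw [hg, hW'.1.2 w' hw' b hb, F.B_eq_zero (hx.2 w' hw')]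
    module
  · rw [hg, hb', hW₀.1.2 w w.2 x hx.1]
    module

/-- the root elements of the orthogonal cases -/
theorem exists_root_perp2 {G' : Subgroup F.iso} (hG : ∀ g : F.iso, IsRoot F g → g ∈ G') [FiniteDimensional K V]
    {W₀ W' : Submodule K V} (hW₀ : F.TS W₀)
    (hperp : W₀ ≤ F.perp W') {x : V} (hx : x ∈ W₀) (f : W₀ →ₗ[K] K) (hf : ∀ w : W₀, (w : V) ∈ W' → f w = 0)
    (hfx : f ⟨x, hx⟩ = 0) :
    ∃ g : F.iso, g ∈ G' ∧ (∀ w' ∈ W', (g : V ≃ₗ[K] V) w' = w') ∧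
      ∀ w : W₀, (g : V ≃ₗ[K] V) w = w + f w • x := by
  by_cases hf0 : f = 0
  · refine ⟨1, G'.one_mem, fun _ _ => rfl, fun w => ?_⟩
    rw [hf0, LinearMap.zero_apply, zero_smul, add_zero]
    rfl
  obtain ⟨b, hb, hb1, hb2⟩ := CForm.exists_sing_dual hW₀ hperp f hf hf0
  have hxb : F.B x b = 0 := by rw [← hfx, hb1]
  obtain ⟨g, hg⟩ := F.exists_root (hW₀.sing hx) hb hxb
  refine ⟨g, hG g ⟨x, b, hW₀.sing hx, hb, hxb, hg⟩, fun w' hw' => ?_, fun w => ?_⟩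
  · rw [hg, hb2 w' hw', F.B_eq_zero (hperp hx w' hw')]
    module
  · rw [hg, hb1, hW₀.2 w w.2 x hx]
    module

/-- case `W₀ ⟂ W'`, `W₀ ∩ W' ≠ 0` -/
theorem van2_case2 {G' : Subgroup F.iso} (hG : ∀ g : F.iso, IsRoot F g → g ∈ G') [FiniteDimensional K V] [Finite V]
    {k : ℕ} {c c' : GL (Fin k) K → ℂ} (hcf : IsClassFunction _ c) (hcf' : IsClassFunction _ c')
    (hcusp : IsCusp c)
    {W₀ W' : Submodule K V} (hW₀ : W₀ ∈ F.Om k) (hW' : W' ∈ F.Om k) (hperp : W₀ ≤ F.perp W') (h0 : W₀ ⊓ W' ≠ ⊥)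
    (h1 : W' ≠ W₀) : Van2 F G' c c' W₀ W' := by
  refine van2_of_root hcf hcf' hcusp hW₀.2 hW'.2 (W₀ ⊓ W') inf_le_left h0 (fun h => h1 ?_) fun x hx f hf => ?_
  · symm
    apply Submodule.eq_of_le_of_finrank_eq
    · rw [← h]; exact inf_le_right
    · rw [hW₀.2, hW'.2]
  exact exists_root_perp2 hG hW₀.1 hperp hx.1 f (fun w hw => hf w ⟨w.2, hw⟩) (hf ⟨x, hx.1⟩ hx)

/-- case `W₀ ⟂ W'`, `W₀ ∩ W' = 0` -/
theorem van2_case3 {G' : Subgroup F.iso} (hG : ∀ g : F.iso, IsRoot F g → g ∈ G') [FiniteDimensional K V] [Finite V]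
    {k : ℕ} (hk : 2 ≤ k) {c c' : GL (Fin k) K → ℂ}
    (hcf : IsClassFunction _ c) (hcf' : IsClassFunction _ c')
    (hcusp : IsCusp c)
    {W₀ W' : Submodule K V} (hW₀ : W₀ ∈ F.Om k) (hW' : W' ∈ F.Om k) (hperp : W₀ ≤ F.perp W') (h0 : W₀ ⊓ W' = ⊥) :
    Van2 F G' c c' W₀ W' := by
  classical
  obtain ⟨x, hx, hx0⟩ : ∃ x ∈ W₀, x ≠ 0 := by
    by_contra h
    push Not at h
    have : W₀ = ⊥ := (Submodule.eq_bot_iff _).2 h
    have h2 := hW₀.2
    rw [this, finrank_bot] at h2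
    omega
  refine van2_of_root hcf hcf' hcusp hW₀.2 hW'.2 (K ∙ x) ((Submodule.span_singleton_le_iff_mem _ _).2 hx)
    (fun h => hx0 (Submodule.span_singleton_eq_bot.1 h)) (fun h => ?_) fun y hy f hf => ?_
  · have h2 := hW₀.2
    rw [← h, finrank_span_singleton hx0] at h2
    omega
  · have hyW : y ∈ W₀ := ((Submodule.span_singleton_le_iff_mem _ _).2 hx) hy
    exact exists_root_perp2 hG hW₀.1 hperp hyW f (fun w hw => by
      have : (w : V) ∈ W₀ ⊓ W' := ⟨w.2, hw⟩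
      rw [h0] at this
      have e : w = 0 := Subtype.ext ((Submodule.mem_bot K).1 this)
      rw [e, map_zero]) (hf ⟨y, hyW⟩ hy)

/-- case `W₀ ⟂ W'`, `W₀ ∩ W' = 0`, `c` non-trivial -/
theorem van2_case3' [FiniteDimensional K V] [Finite V] [Finite K] {k : ℕ} {c c' : GL (Fin k) K → ℂ}
    (hc : IsIrrCharacter _ c) (hc1 : c ≠ 1) (hcf' : IsClassFunction _ c')
    {W₀ W' : Submodule K V} (hW₀ : W₀ ∈ F.Om k) (hW' : W' ∈ F.Om k) (hperp : W₀ ≤ F.perp W') (h0 : W₀ ⊓ W' = ⊥) :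
    Van2 F ⊤ c c' W₀ W' := by
  classical
  have hcf := Core.isIrr_isClassFunction hc
  let b₀ : Basis (Fin k) K W₀ := finBasisOfFinrankEq K W₀ hW₀.2
  let b₁ : Basis (Fin k) K W' := finBasisOfFinrankEq K W' hW'.2
  letI : Fintype (GL (Fin k) K) := Fintype.ofFinite _
  have hM := F.TS_sup hW₀.1 hW'.1 hperp
  have h1 : W₀ ≤ W₀ ⊔ W' := le_sup_left
  have h2 : W' ≤ W₀ ⊔ W' := le_sup_right
  have hcompl : IsCompl (W₀.comap (W₀ ⊔ W').subtype) (W'.comap (W₀ ⊔ W').subtype) := by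
    constructor
    · rw [disjoint_iff, Submodule.eq_bot_iff]
      rintro x ⟨hx, hx'⟩
      have : (x : V) ∈ W₀ ⊓ W' := ⟨hx, hx'⟩
      rw [h0] at this
      exact Subtype.ext ((Submodule.mem_bot K).1 this)
    · rw [codisjoint_iff, Submodule.eq_top_iff']
      rintro ⟨x, hx⟩
      obtain ⟨y, hy, z, hz, rfl⟩ := Submodule.mem_sup.1 hx
      exact Submodule.mem_sup.2 ⟨⟨y, h1 hy⟩, hy, ⟨z, h2 hz⟩, hz, rfl⟩
  let L : Subgroup F.iso :=
    { carrier := {g | W₀.map (F.iso.subtype g : V →ₗ[K] V) = W₀ ∧ ∀ w' ∈ W', (g : V ≃ₗ[K] V) w' = w'}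
      one_mem' := ⟨(stabW F.iso.subtype W₀).one_mem, fun _ _ => rfl⟩
      mul_mem' := by
        rintro x y ⟨hx0, hx1⟩ ⟨hy0, hy1⟩
        refine ⟨(stabW F.iso.subtype W₀).mul_mem hx0 hy0, fun w' hw' => ?_⟩
        rw [Subgroup.coe_mul, LinearEquiv.mul_apply, hy1 w' hw', hx1 w' hw']
      inv_mem' := by
        rintro x ⟨hx0, hx1⟩
        refine ⟨(stabW F.iso.subtype W₀).inv_mem hx0, fun w' hw' => ?_⟩
        have h1 : ((x⁻¹ : F.iso) : V ≃ₗ[K] V) ((x : V ≃ₗ[K] V) w') = w' := (x : V ≃ₗ[K] V).symm_apply_apply w'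
        rwa [hx1 w' hw'] at h1 }
  have hL1 : ∀ l ∈ L, W'.map (F.iso.subtype l : V →ₗ[K] V) = W' := fun l hl => map_eq_of_le F.iso.subtype fun w hw => by
    have := hl.2 w hw
    change (l : V ≃ₗ[K] V) w ∈ W'
    rw [this]; exact hw
  refine ⟨L, le_top, fun l hl => hl.1, fun l hl => hL1 l hl, fun {_} => ?_⟩
  let f : L →* GL (Fin k) K :=
    (glE b₀).toMonoidHom.comp ((resHom F.iso.subtype W₀).comp
      (Subgroup.inclusion (show L ≤ stabW F.iso.subtype W₀ from fun l hl => hl.1)))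
  have hf : Function.Surjective f := by
    intro A
    obtain ⟨a, rfl⟩ := (glE b₀).surjective A
    let a₀ : W₀.comap (W₀ ⊔ W').subtype ≃ₗ[K] W₀.comap (W₀ ⊔ W').subtype :=
      ((Submodule.comapSubtypeEquivOfLe h1).trans a).trans (Submodule.comapSubtypeEquivOfLe h1).symm
    let a' : (W₀ ⊔ W' : Submodule K V) ≃ₗ[K] (W₀ ⊔ W' : Submodule K V) :=
      ((Submodule.prodEquivOfIsCompl _ _ hcompl).symm.trans (a₀.prodCongr (LinearEquiv.refl K _))).trans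
      (Submodule.prodEquivOfIsCompl _ _ hcompl)
    have ha1 : ∀ w : W₀, ((a' ⟨w, h1 w.2⟩ : (W₀ ⊔ W' : Submodule K V)) : V) = a w := by
      intro w
      change (((Submodule.prodEquivOfIsCompl _ _ hcompl) ((a₀.prodCongr (LinearEquiv.refl K _))
        ((Submodule.prodEquivOfIsCompl _ _ hcompl).symm ⟨w, h1 w.2⟩)) : (W₀ ⊔ W' : Submodule K V)) : V) = _
      have : (Submodule.prodEquivOfIsCompl _ _ hcompl).symm ⟨w, h1 w.2⟩ = (⟨⟨w, h1 w.2⟩, w.2⟩, 0) := by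
        rw [LinearEquiv.symm_apply_eq]
        simp
      rw [this]
      simp [a₀]
      rfl
    have ha2 : ∀ w : W', ((a' ⟨w, h2 w.2⟩ : (W₀ ⊔ W' : Submodule K V)) : V) = w := by
      intro w
      change (((Submodule.prodEquivOfIsCompl _ _ hcompl) ((a₀.prodCongr (LinearEquiv.refl K _))
        ((Submodule.prodEquivOfIsCompl _ _ hcompl).symm ⟨w, h2 w.2⟩)) : (W₀ ⊔ W' : Submodule K V)) : V) = _
      have : (Submodule.prodEquivOfIsCompl _ _ hcompl).symm ⟨w, h2 w.2⟩ = (0, ⟨⟨w, h2 w.2⟩, w.2⟩) := by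
        rw [LinearEquiv.symm_apply_eq]
        simp
      rw [this]
      simp
    obtain ⟨g, hg⟩ := F.exists_levi' hM a'
    have hg0 : ∀ w : W₀, (g : V ≃ₗ[K] V) w = a w := fun w => (hg ⟨w, h1 w.2⟩).trans (ha1 w)
    have hgL : g ∈ L := by
      refine ⟨map_eq_of_le F.iso.subtype fun w hw => ?_, fun w' hw' => ?_⟩
      · change (g : V ≃ₗ[K] V) w ∈ W₀
        rw [hg0 ⟨w, hw⟩]
        exact (a ⟨w, hw⟩).2
      · exact (hg ⟨w', h2 hw'⟩).trans (ha2 ⟨w', hw'⟩)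
    refine ⟨⟨g, hgL⟩, ?_⟩
    change glE b₀ (res (F.iso.subtype g) W₀ _) = glE b₀ a
    congr 1
    ext w
    exact hg0 w
  have e1 : ∀ l : L, flagTerm F.iso.subtype c l W₀ * conj (flagTerm F.iso.subtype c' l W') =
      (fun A => c A * conj (c' 1)) (f l) := by
    intro l
    rw [flagTerm_of F.iso.subtype c l.2.1, flagTerm_of F.iso.subtype c' (hL1 l l.2), cl_eq hcf b₀]
    have e2 : res (F.iso.subtype (l : F.iso)) W' (hL1 l l.2) = 1 := by
      ext w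
      exact l.2.2 w w.2
    rw [e2, cl_one hcf' b₁]
    rfl
  rw [Finset.sum_congr rfl fun l _ => e1 l, sum_comp_hom f hf (fun A => c A * conj (c' 1))]
  have h4 := Core.classInner_irr_ne hc Core.isIrr_one hc1
  rw [Core.classInner_def] at h4
  rcases mul_eq_zero.1 h4 with h5 | h5
  · exact absurd h5 (inv_ne_zero card_ne_zero')
  · rw [← Finset.sum_mul]
    have : ∑ A, c A = 0 := by
      rw [← h5]
      refine Finset.sum_congr rfl fun A _ => ?_
      rw [Pi.one_apply, map_one, mul_one]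
    rw [this, zero_mul, mul_zero]

/-- pairs which are neither equal nor opposite, `G' = ⊤` -/
theorem van2_top [FiniteDimensional K V] [Finite V] [Finite K] {k : ℕ} {c c' : GL (Fin k) K → ℂ}
    (hc : IsIrrCharacter _ c) (hc1 : c ≠ 1) (hcusp : IsCusp c) (hcf' : IsClassFunction _ c')
    {W₀ W' : Submodule K V} (hW₀ : W₀ ∈ F.Om k) (hW' : W' ∈ F.Om k) (hne : W' ≠ W₀) (h0 : W₀ ⊓ F.perp W' ≠ ⊥) :
    Van2 F ⊤ c c' W₀ W' := by
  have hcf := Core.isIrr_isClassFunction hc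
  by_cases h1 : W₀ ⊓ F.perp W' = W₀
  · have h1' : W₀ ≤ F.perp W' := inf_eq_left.1 h1
    by_cases h2 : W₀ ⊓ W' = ⊥
    · exact van2_case3' hc hc1 hcf' hW₀ hW' h1' h2
    · exact van2_case2 (fun _ _ => Subgroup.mem_top _) hcf hcf' hcusp hW₀ hW' h1' h2 hne
  · exact van2_case1 (fun _ _ => Subgroup.mem_top _) hcf hcf' hcusp hW₀ hW' h0 h1

end Cfsg.Agent.H328.Gow
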